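import Cfsg.Agent.HSo.Zh

/-! The outer involution of `He` fixes a nonabelian 3-subgroup. -/

set_option autoImplicit false
set_option maxRecDepth 1000000

namespace CF.HSo

open CF.Comp CF.Bt Subgroup

theorem zh_p3 {G : Type*} [Group G] [Finite G] {x y z : G} (hx : x ^ 3 = 1) (hy : y ^ 3 = 1) (hz : z ^ 3 = 1)
    (zx : z * x = x * z) (zy : y * z = z * y) (e : y * x = x * z * y) :
    IsPGroup 3 (zpowers x ⊔ zpowers z ⊔ zpowers y : Subgroup G) := by
  have c : ∀ {a : G}, a ^ 3 = 1 → IsPGroup 3 (zpowers a) := fun {a} h ⟨b, k, hk⟩ =>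
    ⟨1, Subtype.ext (by
      show b ^ 3 ^ 1 = 1
      rw [← hk, pow_one, ← zpow_natCast, ← zpow_mul, mul_comm, zpow_mul, zpow_natCast, h, one_zpow])⟩
  have nz : ∀ {a : G} {H : Subgroup G}, H.map (MulAut.conj a).toMonoidHom ≤ H → zpowers a ≤ normalizer (H : Set G) :=
    fun h => zpowers_le.2 (mem_normalizer_fintype fun n hn => h ⟨n, hn, rfl⟩)
  refine ((c hx).to_sup_of_normal_left' (c hz) (nz ?_)).to_sup_of_normal_left' (c hy) (nz ?_)
  · rw [MonoidHom.map_zpowers, zpowers_le]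
    show z * x * z⁻¹ ∈ _
    rw [zx, mul_inv_cancel_right]; exact mem_zpowers x
  · rw [Subgroup.map_sup, MonoidHom.map_zpowers, MonoidHom.map_zpowers, sup_le_iff, zpowers_le, zpowers_le]
    constructor
    · show y * x * y⁻¹ ∈ _
      rw [e, mul_inv_cancel_right]; exact mul_mem_sup (mem_zpowers x) (mem_zpowers z)
    · show y * z * y⁻¹ ∈ _
      rw [zy, mul_inv_cancel_right]; exact mem_sup_right (mem_zpowers z)

open OutHe

noncomputable def zhX : List ℕ := wpow [1, 1, 5, 2, 5, 2, 2, 2, 5, 2, 5, 1, 5, 1, 4] 2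
noncomputable def zhY : List ℕ := [4, 5, 2, 3, 5, 2, 3, 2, 5, 2, 5, 4, 1, 4, 4, 5, 1, 1, 5, 2, 5, 4, 2, 5, 4]
noncomputable def zhZ : List ℕ := wpow [2, 5, 2, 2, 2, 5, 2, 2, 2, 5, 2, 2, 2, 5, 2] 2

theorem zh_k3 : lall (fun t => t) [zhMap (lapp X X1) c [wpow [1] 3, [3], y] [5] zhX zhX,
    zhMap (lapp X X1) c [wpow [1] 3, [3], y] [5] zhY zhY, zhMap (lapp X X1) c [wpow [1] 3, [3], y] [5] zhZ zhZ,
    baseEq (lapp X X1) c (wpow zhX 3) [], baseEq (lapp X X1) c (wpow zhY 3) [], baseEq (lapp X X1) c (wpow zhZ 3) [],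
    baseEq (lapp X X1) c (lapp zhZ zhX) (lapp zhX zhZ), baseEq (lapp X X1) c (lapp zhY zhZ) (lapp zhZ zhY),
    baseEq (lapp X X1) c (lapp zhY zhX) (lapp (lapp zhX zhZ) zhY), neAt (lapp X X1) 2058 0 zhZ []] = true := by
  decide +kernel

theorem he_tau3 : ∃ τ : MulAut Cfsg.Spor.He, τ * τ = 1 ∧ (∀ g, τ ≠ MulAut.conj g) ∧
    ∃ P : Subgroup Cfsg.Spor.He, IsPGroup 3 P ∧ ¬ P ≤ Subgroup.centralizer (P : Set _) ∧ ∀ x ∈ P, τ x = x := by
  obtain ⟨hE, hg⟩ := Exact.fresh He.exact (by decide) (fun _ _ => trivial) h1 (m := 3) rfl h2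
    (Subgroup.card_top.trans He.card) h3
  have hZ := cent_of hE (by decide) (by decide) (std_of_S t2) z1 z2
  obtain ⟨β, hβ⟩ := exists_aut hE hg (by decide) hP
  have o := zh_outer hE (by decide) (by decide) hZ hD hβ
  have k := zh_k
  have l := zh_k3
  simp only [lall_iff, List.forall_mem_cons] at k l
  obtain ⟨k1, k2, k3, k4, k5, k6, -⟩ := k
  obtain ⟨l1, l2, l3, l4, l5, l6, l7, l8, l9, l0, -⟩ := l
  generalize (slp _ W 3 : ℕ → Cfsg.Spor.He) = f at hE hg hβ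
  have := Exact.finite_top hE
  have q := fun {u w} h => hE.eq_of_base (u := u) (w := w) trivial trivial h
  have e := q l9
  rw [ev_lapp, ev_lapp, ev_lapp] at e
  refine ⟨MulAut.conj (ev f [5]) * β, aut_ext hg fun i hi => ?_, fun g e => o ((ev f [5])⁻¹ * g) ?_, _,
    zh_p3 ((ev_wpow f zhX 3).symm.trans (q l4)) ((ev_wpow f zhY 3).symm.trans (q l5)) ((ev_wpow f zhZ 3).symm.trans (q l6))
      ((ev_lapp ..).symm.trans ((q l7).trans (ev_lapp ..))) ((ev_lapp ..).symm.trans ((q l8).trans (ev_lapp ..))) e,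
    fun h => ne_of_neAt hE.reps l0 ?_, ?_⟩
  · rw [MulAut.mul_apply, MulAut.one_apply, ← ev_single f i]
    interval_cases i
    exacts [(congrArg _ (zh_map hE hβ k1)).trans (zh_map hE hβ k2),
      (congrArg _ (zh_map hE hβ k3)).trans (zh_map hE hβ k4), (congrArg _ (zh_map hE hβ k5)).trans (zh_map hE hβ k6)]
  · rw [map_mul, ← e, map_inv, inv_mul_cancel_left]
  · have a := h (mem_sup_left (mem_sup_left (mem_zpowers _))) _ (mem_sup_right (mem_zpowers _))
    rw [e, mul_left_inj, mul_eq_left] at a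
    exact a
  · exact fun x hx => (sup_le (sup_le (zpowers_le.2 (zh_map hE hβ l1)) (zpowers_le.2 (zh_map hE hβ l3)))
      (zpowers_le.2 (zh_map hE hβ l2)) : _ ≤ MonoidHom.eqLocus (MulAut.conj (ev f [5]) * β : MulAut _).toMonoidHom (.id _)) hx

end CF.HSo
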