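import Cfsg.Agent.Known.Aut.PSLField

/-! Outer automorphisms of `PSU₅(2)` fix no element of order `15`. -/

set_option autoImplicit false

namespace CF.HSo
open Matrix Module CF.Known

theorem zu_abs {R : Type*} [CommRing R] (u y w : R) (rk : R → ℕ) (φ ψ : R →+* R) (hu : u ^ 5 = 1) (hy : y ^ 3 = 1)
    (hw : w ^ 2 + w + 1 = 0) (h2 : (2 : R) = 0) (nu : u ≠ 1) (ny : y ≠ 1) (φu : φ u = u) (φy : φ y = y) (φw : φ w = w ^ 2)
    (ψu : ψ u = u ^ 4) (ψy : ψ y = y ^ 2) (ψw : ψ w = w ^ 2) (r1 : rk 1 ≤ 5) (r0 : ∀ a ≠ 0, 1 ≤ rk a)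
    (re : ∀ a ≠ 0, (1 + u + u ^ 2 + u ^ 3 + u ^ 4) * a = 0 → 2 ≤ rk a)
    (ra : ∀ a b m, a * a = a → a * b = 0 → m * a = a → m * b = b → rk a + rk b ≤ rk m) : False := by
  obtain ⟨E, hE⟩ : ∃ E, E = 1 + w ^ 2 * y + w * y ^ 2 := ⟨_, rfl⟩
  obtain ⟨E', hE'⟩ : ∃ E, E = 1 + w * y + w ^ 2 * y ^ 2 := ⟨_, rfl⟩
  obtain ⟨P, hP⟩ : ∃ P, P = w * (u + u ^ 4) + w ^ 2 * (u ^ 2 + u ^ 3) := ⟨_, rfl⟩
  obtain ⟨P', hP'⟩ : ∃ P, P = w ^ 2 * (u + u ^ 4) + w * (u ^ 2 + u ^ 3) := ⟨_, rfl⟩
  obtain ⟨N, hN⟩ : ∃ N, N = 1 + u + u ^ 2 + u ^ 3 + u ^ 4 := ⟨_, rfl⟩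
  have ⟨a1, a2, a3, a4⟩ : φ E = E' ∧ φ E' = E ∧ φ P = P' ∧ φ P' = P := by
    simp only [hE, hE', hP, hP', map_add, map_mul, map_pow, map_one, φu, φy, φw]
    clear * - hw h2
    grind
  have ⟨b1, b2, b3, b4⟩ : ψ E = E ∧ ψ E' = E' ∧ ψ P = P' ∧ ψ P' = P := by
    simp only [hE, hE', hP, hP', map_add, map_mul, map_pow, map_one, ψu, ψy, ψw]
    clear * - hw h2 hu hy
    grind
  have ⟨c1, c2, c3, c4, c5, c6, c7, c8, c9⟩ : E * E = E ∧ E * E' = 0 ∧ P * P = P ∧ P * P' = 0 ∧ P' * P' = P' ∧ N * P = 0 ∧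
      N * P' = 0 ∧ N + P + P' = 1 ∧ E' * E' = E' := by
    clear * - hw h2 hu hy hE hE' hP hP' hN
    grind
  rw [← hN] at re
  have t : ∀ (θ : R →+* R) {a b}, θ a = b → b ≠ 0 → a ≠ 0 := fun θ _ _ e n z => n (by rw [← e, z, map_zero])
  have k : ¬ (E * P ≠ 0 ∧ E * P' ≠ 0 ∧ E' * P ≠ 0 ∧ E' * P' ≠ 0) := fun ⟨n1, n2, n3, n4⟩ => by
    have := ra (E * P) (E' * P) P (by grind) (by grind) (by grind) (by grind)
    have := ra (E * P') (E' * P') P' (by grind) (by grind) (by grind) (by grind)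
    have := ra P P' 1 c3 c4 (one_mul _) (one_mul _)
    have := re _ n1 (by grind)
    have := re _ n2 (by grind)
    have := re _ n3 (by grind)
    have := re _ n4 (by grind)
    omega
  have i1 : E * P ≠ 0 → E * P' ≠ 0 := t ψ (by rw [map_mul, b1, b4])
  have i2 : E * P' ≠ 0 → E' * P ≠ 0 := t φ (by rw [map_mul, a2, a3])
  have i3 : E' * P ≠ 0 → E' * P' ≠ 0 := t ψ (by rw [map_mul, b2, b4])
  have i4 : E' * P' ≠ 0 → E * P ≠ 0 := t φ (by rw [map_mul, a1, a3])
  have z1 : E * P = 0 := by tauto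
  have z2 : E * P' = 0 := by tauto
  have z3 : E' * P = 0 := by tauto
  have z4 : E' * P' = 0 := by tauto
  have nE : E ≠ 0 := fun e => ny (by
    have e' : E' = 0 := by rw [← a1, e, map_zero]
    clear * - hw h2 hy hE hE' e e'
    grind)
  have nP : P ≠ 0 := fun e => nu (by
    have e' : P' = 0 := by rw [← a3, e, map_zero]
    clear * - hu hN e e' c8
    grind)
  have := ra E E' N c1 c2 (by grind) (by grind)
  have := ra P P' (P + P') c3 c4 (by grind) (by grind)
  have := ra (P + P') N 1 (by grind) (by grind) (one_mul _) (one_mul _)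
  have := r0 _ nE
  have := r0 _ (t φ a2 nE)
  have := re _ nP c6
  have := re _ (t φ a4 nP) c7
  omega

variable {F : Type} [Field F] [Fintype F]

theorem zu_mat (h : Fintype.card F = 4) {j : F →+* F} (J : IsConjug j 2) (s g g' : Matrix (Fin 5) (Fin 5) F)
    (gg : g' * g = 1) (h15 : s ^ 15 = 1) (n3 : s ^ 3 ≠ 1) (n5 : s ^ 5 ≠ 1) (e1 : sᵀ * s.map j = 1)
    (e2 : g * s.map j * g' = s) : False := by
  have p4 : ∀ c : F, c ^ 4 = c := fun c => h ▸ FiniteField.pow_card c
  have h2 : (2 : F) = 0 := by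
    have := FiniteField.cast_card_eq_zero F
    rw [h] at this
    exact pow_eq_zero_iff (two_ne_zero).elim |>.1 (by norm_num at this ⊢; exact this : (2 : F) ^ 2 = 0)
  obtain ⟨w, hw⟩ := J.exists_ne
  rw [J.eq] at hw
  have hw' : w ^ 2 + w + 1 = 0 := by
    have := p4 w
    clear * - this h2 hw
    grind
  let R := Algebra.adjoin F {s}
  let S : R := ⟨s, Algebra.subset_adjoin rfl⟩
  have e3 : (s.map j)ᵀ = s ^ 14 := by
    have : (s.map j)ᵀ * s = 1 := by rw [← transpose_transpose s, ← transpose_mul, transpose_transpose, e1, transpose_one]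
    rw [← mul_one (s.map j)ᵀ, ← h15, pow_succ', ← mul_assoc, this, one_mul]
  have sc : ∀ c, (algebraMap F (Matrix (Fin 5) (Fin 5) F) c).map j = algebraMap F _ (j c) := fun c => by
    simp [Matrix.algebraMap_eq_diagonal, Matrix.diagonal_map]
  have gg' := mul_eq_one_comm.1 gg
  let φ0 : Matrix (Fin 5) (Fin 5) F →+* Matrix (Fin 5) (Fin 5) F :=
    { toFun := fun a => g * a.map j * g'
      map_one' := by simp [gg']
      map_mul' := fun a b => by
        rw [Matrix.map_mul]; simp only [mul_assoc]; rw [← mul_assoc g', gg, one_mul]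
      map_zero' := by simp
      map_add' := fun a b => by rw [Matrix.map_add _ j.map_add, mul_add, add_mul] }
  have φc : ∀ c, φ0 (algebraMap F _ c) = algebraMap F _ (j c) := fun c => by
    change g * _ * g' = _
    rw [sc, ← Algebra.commutes, mul_assoc, gg', mul_one]
  have ψc : ∀ c, ((algebraMap F (Matrix (Fin 5) (Fin 5) F) c).map j)ᵀ = algebraMap F _ (j c) := fun c => by
    rw [sc]; simp [Matrix.algebraMap_eq_diagonal]
  let φ : R →+* R := φ0.restrict R R fun a m => by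
    induction m using Algebra.adjoin_induction with
    | mem x m => rw [m, show φ0 s = s from e2]; exact S.2
    | algebraMap c => rw [φc]; exact R.algebraMap_mem _
    | add a b _ _ k l => rw [map_add]; exact add_mem k l
    | mul a b _ _ k l => rw [map_mul]; exact mul_mem k l
  have mψ : ∀ a ∈ R, (a.map j)ᵀ ∈ R := fun a m => by
    induction m using Algebra.adjoin_induction with
    | mem x m => rw [m, e3]; exact pow_mem S.2 _
    | algebraMap c => rw [ψc]; exact R.algebraMap_mem _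
    | add a b _ _ k l => rw [Matrix.map_add _ j.map_add, transpose_add]; exact add_mem k l
    | mul a b _ _ k l => rw [Matrix.map_mul, transpose_mul]; exact mul_mem l k
  let ψ : R →+* R :=
    { toFun := fun a => ⟨_, mψ a a.2⟩
      map_one' := Subtype.ext (by simp)
      map_mul' := fun a b => by
        rw [mul_comm (⟨_, mψ a a.2⟩ : R)]; exact Subtype.ext (by simp [Matrix.map_mul])
      map_zero' := Subtype.ext (by simp)
      map_add' := fun a b => Subtype.ext (by simp [Matrix.map_add _ j.map_add]) }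
  have S15 : S ^ 15 = 1 := Subtype.ext h15
  have φS : φ S = S := Subtype.ext e2
  have ψS : ψ S = S ^ 14 := Subtype.ext e3
  refine zu_abs (S ^ 3) (S ^ 5) (algebraMap F R w) (fun a => finrank F (LinearMap.range a.1.mulVecLin)) φ ψ
    (by rw [← pow_mul, S15]) (by rw [← pow_mul, S15]) (by simpa using congrArg (algebraMap F R) hw')
    (by rw [← map_ofNat (algebraMap F R), h2, map_zero]) (fun e => n3 (congrArg Subtype.val e))
    (fun e => n5 (congrArg Subtype.val e)) (by rw [map_pow, φS]) (by rw [map_pow, φS])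
    (Subtype.ext ((φc w).trans (by simp [J.eq]))) (by rw [map_pow, ψS, ← pow_mul, ← pow_mul, show 14 * 3 = 15 * 2 + 3 * 4 from rfl, pow_add, pow_mul, S15, one_pow, one_mul])
    (by rw [map_pow, ψS, ← pow_mul, ← pow_mul, show 14 * 5 = 15 * 4 + 5 * 2 from rfl, pow_add, pow_mul, S15, one_pow, one_mul])
    (Subtype.ext ((ψc w).trans (by simp [J.eq])))
    ((Submodule.finrank_le _).trans (by simp)) (fun a n => ?_) (fun a n e => ?_) fun a b m k1 k2 k3 k4 => ?_
  · refine Nat.pos_of_ne_zero fun e => n (Subtype.ext ?_)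
    rw [Submodule.finrank_eq_zero, LinearMap.range_eq_bot] at e
    exact Matrix.toLin'.injective (e.trans (map_zero _).symm)
  · by_contra! l
    obtain ⟨x, hx⟩ : ∃ x, a.1 *ᵥ x ≠ 0 := by
      by_contra! q
      exact n (Subtype.ext (Matrix.toLin'.injective (LinearMap.ext fun x => by simp [q])))
    obtain ⟨v, hv⟩ := finrank_le_one_iff.1 (Nat.le_of_lt_succ l)
    obtain ⟨c, hc⟩ := hv ⟨_, x, rfl⟩
    obtain ⟨d, hd⟩ := hv ⟨_, s ^ 3 *ᵥ x, rfl⟩
    replace hc : c • v.1 = a.1 *ᵥ x := congrArg Subtype.val hc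
    replace hd : d • v.1 = s ^ 3 *ᵥ a.1 *ᵥ x := (congrArg Subtype.val hd).trans (by
      have : a.1 * s ^ 3 = s ^ 3 * a.1 := congrArg Subtype.val (mul_comm a (S ^ 3))
      simp [this])
    have c0 : c ≠ 0 := fun z => hx (by rw [← hc, z, zero_smul])
    have k : ∀ i, (s ^ 3) ^ i *ᵥ a.1 *ᵥ x = (d / c) ^ i • a.1 *ᵥ x := fun i => by
      induction i with
      | zero => simp
      | succ i ih =>
        rw [pow_succ, ← mulVec_mulVec, ← hd, show d • v.1 = (d / c) • a.1 *ᵥ x by rw [← hc, smul_smul, div_mul_cancel₀ _ c0],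
          mulVec_smul, ih, smul_smul, pow_succ']
    have k5 := k 5
    rw [← pow_mul, h15, one_mulVec, eq_comm, ← sub_eq_zero, ← one_smul F (a.1 *ᵥ x), smul_smul, ← sub_smul, smul_eq_zero,
      or_iff_left hx] at k5
    have d1 : d / c = 1 := by
      have := p4 (d / c)
      clear * - this k5
      grind
    replace e : ((1 + s ^ 3 + (s ^ 3) ^ 2 + (s ^ 3) ^ 3 + (s ^ 3) ^ 4) * a.1) *ᵥ x = (0 : Matrix _ _ F) *ᵥ x :=
      congrArg (·.1 *ᵥ x) e
    have k1 := k 1
    rw [pow_one] at k1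
    simp only [← mulVec_mulVec, add_mulVec, k, k1, d1, one_pow, one_smul, one_mulVec, zero_mulVec] at e
    refine hx (e ▸ ?_)
    have : ∀ z : Fin 5 → F, z + z = 0 := fun z => by rw [← two_smul F, h2, zero_smul]
    rw [this, zero_add, this, zero_add]
  · have l : ∀ a : R, m * a = a → LinearMap.range a.1.mulVecLin ≤ LinearMap.range m.1.mulVecLin := by
      rintro a e _ ⟨x, rfl⟩
      exact ⟨a.1 *ᵥ x, by simp [show m.1 * a.1 = a.1 from congrArg Subtype.val e]⟩
    rw [← Submodule.finrank_sup_add_finrank_inf_eq, Disjoint.eq_bot, finrank_bot]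
    · exact Submodule.finrank_mono (sup_le (l a k3) (l b k4))
    · rw [Submodule.disjoint_def]
      rintro _ ⟨x, rfl⟩ ⟨y, e⟩
      have e : b.1 *ᵥ y = a.1 *ᵥ x := e
      have := congrArg (a.1 *ᵥ ·) e
      simp only [mulVec_mulVec, show a.1 * b.1 = 0 from congrArg Subtype.val k2, show a.1 * a.1 = a.1 from
        congrArg Subtype.val k1, zero_mulVec] at this
      exact this.symm

theorem u5_out {F : Type} [Field F] [Fintype F] (h : Fintype.card F = 4) (α : MulAut (Cfsg.PSU 5 F 2))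
    (n : ∀ g, α ≠ MulAut.conj g) (x : Cfsg.PSU 5 F 2) (o : orderOf x = 15) : α x ≠ x := by
  have hF : Fintype.card F = 2 ^ 2 := h
  obtain ⟨j, J⟩ := exists_isConjug hF
  have p3 : ∀ c : Fˣ, c ^ 3 = 1 := fun c => Units.ext (by simpa [h] using FiniteField.pow_card_sub_one_eq_one c.1 c.ne_zero)
  have z : ∀ s ∈ Subgroup.center (Cfsg.SU 5 F 2), s = 1 := fun s m => by
    obtain ⟨c, e⟩ := mem_scalars.1 (((J.polarRep (by decide)).projRep.center s).1 m)
    have d := (exists_suRep.1 ⟨s, e.symm⟩).2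
    rw [det_scal, Fintype.card_fin] at d
    have c1 : c = 1 := by
      have := p3 c
      rw [← mul_one c, ← d, ← pow_succ', show 5 + 1 = 3 * 2 from rfl, pow_mul, this, one_pow, d]
    exact suRep_injective (by rw [← e, c1, map_one, map_one])
  have inj : ∀ s t : Cfsg.SU 5 F 2, (s : Cfsg.PSU 5 F 2) = t → s = t := fun s t e =>
    inv_mul_eq_one.1 (z _ (QuotientGroup.eq.1 e))
  obtain ⟨γ, rfl⟩ := psi_su_surjective hF (by decide) (by decide) α
  obtain ⟨s, rfl⟩ := QuotientGroup.mk_surjective x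
  intro e
  rw [Stab.psi_mk] at e
  have e1 := stab_su.res_spec γ s
  rw [inj _ _ e, toAut_apply] at e1
  have o' : orderOf (suRep 5 F 2 s) = 15 := by
    rw [orderOf_injective _ suRep_injective, ← o]
    exact (orderOf_injective (QuotientGroup.mk' _) inj s).symm
  have hσ : (γ.1.right : F →+* F) = j := by
    have : Fact (Nat.Prime 2) := ⟨Nat.prime_two⟩
    have k := orderOf_dvd_natCard γ.1.right
    rw [card_ringAut (card_eq_pow_two_mul (p := 2) (f := 1) rfl hF), Nat.dvd_prime Nat.prime_two, orderOf_eq_one_iff] at k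
    refine RingHom.ext fun c => ((isConjug_of_orderOf hF (k.resolve_left fun k => ?_)).eq c).trans (J.eq c).symm
    have mg := mem_semiIsom_su.1 γ.2
    let c := GeneralLinearGroup.det γ.1.left
    obtain ⟨t, ht⟩ := exists_suRep.2 ⟨mul_mem (J.scal_mem_GU.2 (J.det_mem mg)) mg, by
      rw [map_mul, det_scal, Fintype.card_fin, ← pow_succ, show 5 + 1 = 3 * 2 from rfl, pow_mul, p3, one_pow]⟩
    obtain ⟨g, hg⟩ := ((J.model (by decide)).psi_mem_inn_iff γ).2 ⟨k, _, inv_mem (mem_scalars.2 ⟨c, rfl⟩), t, by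
      rw [ht, inv_mul_cancel_left]⟩
    exact n g hg.symm
  refine zu_mat h J (suRep 5 F 2 s).1 γ.1.left.1 γ.1.left⁻¹.1 (by simp) ?_ (fun e => ?_) (fun e => ?_)
    (J.mem_GU_iff.1 (exists_suRep.1 ⟨s, rfl⟩).1) ?_
  · rw [← o', ← Units.val_pow_eq_pow_val, pow_orderOf_eq_one, Units.val_one]
  · exact absurd (orderOf_dvd_of_pow_eq_one (Units.ext e : suRep 5 F 2 s ^ 3 = 1)) (by rw [o']; decide)
  · exact absurd (orderOf_dvd_of_pow_eq_one (Units.ext e : suRep 5 F 2 s ^ 5 = 1)) (by rw [o']; decide)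
  · rw [← hσ]; exact (congrArg Units.val e1).symm

end CF.HSo
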