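import Cfsg.Agent.HSo.E

/-!
Steps on the subgroup `H`, transfer, and the exits.
-/

set_option autoImplicit false
set_option linter.unusedSectionVars false

namespace CF.HSo
open CF.Comp Subgroup CF.Loc
open scoped commutatorElement

universe u

variable {G : Type u} [Group G] [Finite G]

/-- an involution acting freely -/
theorem tlem {X Q : Subgroup G} {t : G} (tt : t * t = 1) (p : IsPGroup 2 Q) (l : X ≤ Q) (nQ : t ∈ 𝐍(Q)) (nX : t ∈ 𝐍(X))
    (fr : ∀ x ∈ X, x * t * (x * t) = 1 → ∃ y ∈ X, y * t * y⁻¹ = x * t) (c : ∀ q ∈ Q, q * t = t * q → q ∈ X) :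
    Q ≤ X := by
  have m : ∀ {Y : Subgroup G} {y}, t ∈ 𝐍(Y) → y ∈ Y ⊔ zpowers t → y ∈ Y ∨ y * t ∈ Y := fun n hy => by
    obtain ⟨a, ha, b, hb, rfl⟩ := (mem_sup_of_le_normalizer (zpowers_le.2 n)).1 hy
    obtain ⟨k, rfl⟩ := hb
    have : t ^ (2 : ℤ) = 1 := by rw [zpow_two, tt]
    obtain ⟨j, rfl | rfl⟩ := Int.even_or_odd' k
    · exact .inl (by simpa [zpow_mul, this])
    · exact .inr (by simpa [zpow_add, zpow_mul, this, mul_assoc, tt])
  have m2 : ∀ y ∈ X ⊔ zpowers t, y ∈ Q → y ∈ X := fun y hy hq => (m nX hy).elim id fun k =>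
    (mul_mem_cancel_right (c t ((mul_mem_cancel_left hq).1 (l k)) rfl)).1 k
  have tm : ∀ Y : Subgroup G, t ∈ Y ⊔ zpowers t := fun Y => mem_sup_right (mem_zpowers t)
  by_contra hn
  obtain ⟨n, ⟨n1, n2⟩, n3⟩ := SetLike.exists_of_lt (lt_inf_normalizer (isPGroup_sup p
    (isPGroup_zpowers (k := 1) (by rw [pow_one, pow_two, tt])) (zpowers_le.2 nQ))
    (lt_of_le_of_ne (sup_le_sup_right l (zpowers t)) fun e => hn fun q hq => m2 q (e.ge (mem_sup_left hq)) hq))
  obtain ⟨n, n1, n2, n3⟩ : ∃ n ∈ Q, n ∈ 𝐍(X ⊔ zpowers t) ∧ n ∉ X := (m nQ n1).elim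
    (fun k => ⟨n, k, n2, fun e => n3 (mem_sup_left e)⟩) fun k => ⟨_, k, mul_mem n2 (le_normalizer (tm X)),
      fun e => n3 ((mul_mem_cancel_right (tm X)).1 (mem_sup_left e))⟩
  have ti : t⁻¹ = t := inv_eq_of_mul_eq_one_left tt
  have k := m2 _ (mul_mem (conj_mem_of_mem_normalizer n2 (tm X)) (tm X)) (by
    simpa [mul_assoc, ti] using mul_mem n1 (conj_mem_of_mem_normalizer nQ (inv_mem n1)))
  have e : n * t * n⁻¹ * t * t = n * t * n⁻¹ := by rw [mul_assoc _ t, tt, mul_one]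
  obtain ⟨y, hy, e2⟩ := fr _ k (by rw [e, conj_mul, tt]; simp)
  refine n3 ((mul_mem_cancel_left (inv_mem hy)).1 (c _ (mul_mem (inv_mem (l hy)) n1) ?_))
  calc y⁻¹ * n * t = y⁻¹ * (n * t * n⁻¹) * n := by group
    _ = _ := by rw [← e, ← e2]; group

noncomputable def a4 : Op2 := fun a b => Nat.land (Nat.add a b) (nat_lit 3)

def z4 (a : ℕ) : Multiplicative (ZMod 4) := Multiplicative.ofAdd (a : ZMod 4)

theorem hm4 : Hm 4 a4 z4 := ⟨by decide, rfl, by decide +kernel⟩

theorem z4_inj : ∀ a < 4, ∀ b < 4, z4 a = z4 b → a = b := by decide +kernel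

/-- the union of the classes -/
noncomputable def clF (N d : ℕ) (m : Op2) (cs : List (ℕ × List (ℕ × ℕ))) : (ℕ → List (ℕ × ℕ) → Fa) → Fa :=
  List.rec (motive := fun _ => (ℕ → List (ℕ × ℕ) → Fa) → Fa) (fun k => k (nat_lit 1) []) (fun c _ ih k =>
    force c.1 fun r => f2 c.2 fun l => Bool.rec .tt (force (msk (lmap Prod.fst l)) fun M => force (cntM d M) fun n =>
      ih fun R rs => force (Nat.lor M R) fun R' => k R' ((r, n) :: rs))
      (an (blt r N) (lall (fun x => an (blt x.1 N) (an (blt x.2 N) (Nat.beq (m x.2 x.1) (m r x.2)))) l))) cs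

noncomputable def sel (f : ℕ × ℕ → Bool) (rs : List (ℕ × ℕ)) : ℕ :=
  List.rec (motive := fun _ => ℕ) (nat_lit 0) (fun r _ ih => Bool.rec ih (Nat.lor (Nat.shiftLeft (nat_lit 1) r.1) ih) (f r)) rs

theorem bit_sel {f : ℕ × ℕ → Bool} {rs : List (ℕ × ℕ)} {x : ℕ} :
    (sel f rs).testBit x = true ↔ ∃ r ∈ rs, f r = true ∧ r.1 = x := by
  induction rs with
  | nil => simp [sel]
  | cons r rs ih =>
    show (Bool.rec (sel f rs) (Nat.lor (Nat.shiftLeft 1 r.1) (sel f rs)) (f r) : ℕ).testBit x = true ↔ _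
    rw [List.exists_mem_cons_iff, ← ih]
    cases f r
    · exact ⟨.inr, fun q => q.resolve_left fun k => Bool.noConfusion k.1⟩
    · exact bit_lor.trans (or_congr_left (bit_one.trans ⟨fun e => ⟨rfl, e.symm⟩, fun e => e.2.symm⟩))

noncomputable def idK (N : ℕ) (m : Op2) (kn : List T3) : Bool := lall (fun r => an (ivK N m r.1 r.2.1) (Nat.beq r.2.2 r.1)) kn

noncomputable def inK (m : Op2) (kn : List T3) (a : ℕ) : Bool := sift m kn a fun _ => true

noncomputable def hmF (m : Op2) (fs : List Fa) (js : List ℕ) : ℕ → Bool → Fa :=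
  List.rec (motive := fun _ => ℕ → Bool → Fa) .hh (fun j _ ih x b => match nf fs j with
    | .hh y c => force (m x y) fun z => Bool.rec (ih z false) (ih z true) (Bool.rec (nt b) b c)
    | _ => .tt) js

section
variable {E : Env G} {W : List Lv} {m : Op2} {fs : List Fa} {xs : List G} (C : Cx E W m fs xs)

local notation "φ" => ev W xs
local notation "N" => sz W

include C

theorem Cx.clF {cs : List (ℕ × List (ℕ × ℕ))} {k : ℕ → List (ℕ × ℕ) → Fa}
    (h : ∀ (R : ℕ) (rs : List (ℕ × ℕ)), (∀ r ∈ rs, r.1 < N ∧ r.2 * Nat.card (C.P ⊓ 𝐜(φ r.1) :) ≤ N) → (∀ c, R.testBit c = true → c = 0 ∨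
      ∃ r ∈ rs, ∃ p < N, φ p * φ c * (φ p)⁻¹ = φ r.1) → Sem E φ N (k R rs)) : Sem E φ N (clF N (llen W) m cs k) := by
  induction cs generalizing k with
  | nil => exact h 1 [] (fun _ h => nomatch h) fun c q => .inl (Nat.testBit_one_eq_true_iff_self_eq_zero.1 q)
  | cons c cs ih =>
    obtain ⟨r, l⟩ := c
    show Sem E φ N (force r fun r => f2 l fun l => Bool.rec .tt (force (msk (lmap Prod.fst l)) fun M =>
      force (cntM (llen W) M) fun n => HSo.clF N (llen W) m cs fun R rs => force (Nat.lor M R) fun R' => k R' ((r, n) :: rs))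
      (an (blt r N) (lall (fun x => an (blt x.1 N) (an (blt x.2 N) (Nat.beq (m x.2 x.1) (m r x.2)))) l)))
    rw [force_eq, f2_eq]
    cases e : an (blt r N) (lall (fun x => an (blt x.1 N) (an (blt x.2 N) (Nat.beq (m x.2 x.1) (m r x.2)))) l)
    · trivial
    simp only [an_iff, lall_iff, blt_iff, beq_iff] at e
    have q : ∀ c, (msk (lmap Prod.fst l)).testBit c = true → c < N ∧ ∃ p < N, φ p * φ c * (φ p)⁻¹ = φ r := fun c q => by
      rw [bit_msk, lmap_eq] at q
      obtain ⟨x, hx, rfl⟩ := List.mem_map.1 q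
      obtain ⟨a, b, c⟩ := e.2 x hx
      exact ⟨a, _, b, mul_inv_eq_of_eq_mul ((C.eq b a e.1 b).1 c)⟩
    show Sem E φ N (force _ _)
    simp only [force_eq]
    generalize msk (lmap Prod.fst l) = M at q
    refine ih fun R rs a b => h _ _ (List.forall_mem_cons.2 ⟨⟨e.1, ?_⟩, a⟩) fun c k => (bit_lor.1 k).elim
      (fun k => .inr ⟨_, List.mem_cons_self, (q c k).2⟩) fun k => (b c k).imp_right fun ⟨r, r1, r2⟩ =>
        ⟨r, List.mem_cons_of_mem _ r1, r2⟩
    choose! p p1 p2 using fun c k => (q c k).2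
    rw [C.cnt (lt_of_bits fun c k => (q c k).1), ← Nat.card_eq_finsetCard, ← Nat.card_prod]
    refine (Nat.card_le_card_of_injective (fun x : bits N M × (C.P ⊓ 𝐜(φ r) :) => (⟨x.2 * φ (p x.1),
      mul_mem (mem_inf.1 x.2.2).1 (C.mem (p1 _ (mem_bits.1 x.1.2).2))⟩ : C.P)) fun x y e => ?_).trans C.cardP.le
    have e : (x.2 : G) * φ (p x.1) = y.2 * φ (p y.1) := congrArg Subtype.val e
    have k : ∀ x : bits N M × (C.P ⊓ 𝐜(φ r) :), φ x.1 = ((x.2 : G) * φ (p x.1))⁻¹ * φ r * (x.2 * φ (p x.1)) := fun x => by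
      have a := p2 _ (mem_bits.1 x.1.2).2
      have b := c1.1 (mem_inf.1 x.2.2).2
      generalize (x.2 : G) = w, φ x.1 = v, φ (p x.1) = y at a b ⊢
      rw [mul_inv_rev, mul_assoc, mul_assoc, ← mul_assoc _ w, ← b, ← a]; group
    have := Subtype.ext (C.inj _ (mem_bits.1 x.1.2).1 _ (mem_bits.1 y.1.2).1 (by rw [k x, k y, e]))
    exact Prod.ext this (Subtype.ext (mul_right_cancel (this ▸ e)))

/-- a map on codes respecting products gives a homomorphism -/
theorem Cx.lift {K : Type*} [Group K] {ψ : ℕ → K} (h : Hm N (mul W) ψ) :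
    ∃ f : C.P →* K, ∀ a (ha : a < N), f ⟨φ a, C.mem ha⟩ = ψ a := by
  have e : ∀ (x : C.P) a, a < N → φ a = x → x.2.choose = a := fun x a ha e =>
    C.inj _ x.2.choose_spec.1 _ ha (x.2.choose_spec.2.trans e.symm)
  refine ⟨MonoidHom.mk' (fun x => ψ x.2.choose) fun x y => ?_, fun a ha => congrArg ψ (e _ a ha rfl)⟩
  have a := x.2.choose_spec
  have b := y.2.choose_spec
  rw [e (x * y) _ (C.lt a.1 b.1) (by rw [C.mu a.1 b.1, a.2, b.2]; rfl), C.meq _ a.1 _ b.1, (h.2.2 _ a.1 _ b.1).2]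

theorem Cx.idK {kn : List T3} (h : idK N m kn = true) : Kn φ N 1 kn := fun r hr => by
  obtain ⟨a, b⟩ := an_iff.1 (lall_iff.1 h r hr)
  rw [beq_iff.1 b]
  exact ⟨⟨(C.iv a).1, (C.iv a).1, by simp⟩, (C.iv a).2⟩

theorem Cx.inK {g : G} {kn : List T3} (h : Kn φ N g kn) {a : ℕ} (ha : a < N) (k : inK m kn a = true) :
    φ a ∈ Cl φ (dm kn) := (C.sift h ha k).1 _ fun r hr => Cl.mem (mem_dm.2 ⟨r, hr, rfl⟩)

omit C in
theorem Kn.lt {ψ : ℕ → G} {n : ℕ} {g : G} {kn : List T3} (h : Kn ψ n g kn) : ∀ a ∈ dm kn, a < n := fun _ ha =>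
  (f2_left h.f2 ha).elim fun _ q => q.2.1

theorem Cx.nrm {kn : List T3} (h : Kn φ N 1 kn) {a b : ℕ} (i : ivK N m a b = true)
    (k : ∀ r ∈ kn, HSo.inK m kn (m (m a r.1) b) = true) : φ a ∈ 𝐍(Cl φ (dm kn)) := by
  obtain ⟨a1, a2, a3⟩ := C.iv i
  refine mem_normalizer_of_cj_le (map_le_iff_le_comap.2 (Cl.le fun x hx => ?_))
  obtain ⟨r, hr, rfl⟩ := mem_dm.1 hx
  have l := (h r hr).1.1
  exact mem_cm (by rw [C.mu (C.lt a1 l) a2, C.mu a1 l, a3]) (C.inK h (C.lt (C.lt a1 l) a2) (k r hr))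

/-- the centralizer in the coded group is listed -/
theorem Cx.cz {ds Z : List ℕ} (l : ∀ a ∈ ds, a < N)
    (h : allBin (fun x => orr (nt (lall (HSo.cm m x) ds)) (lany (Nat.beq x) Z)) N (llen W) (nat_lit 0) = true) {x : G}
    (hx : x ∈ C.P) (c : x ∈ 𝐂(Cl φ ds)) : ∃ e ∈ Z, φ e = x := by
  obtain ⟨a, ha, rfl⟩ := hx
  obtain ⟨e, he, q⟩ := lany_iff.1 ((orr_iff.1 (C.allN h a ha)).resolve_left fun n => nt_iff.1 n
    (lall_iff.2 fun d hd => (C.cm ha (l d hd)).2 (cen_c.1 c d hd).symm))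
  exact ⟨e, he, beq_iff.1 q ▸ rfl⟩

theorem Cx.hmF {js : List ℕ} {x : ℕ} {b : Bool} (h : Sem E φ N (.hh x b)) : Sem E φ N (hmF m fs js x b) := by
  induction js generalizing x b with
  | nil => exact h
  | cons j js ih =>
    have s := C.nth j
    show Sem E φ N (match nf fs j with
      | .hh y c => force (m x y) fun z => Bool.rec (HSo.hmF m fs js z false) (HSo.hmF m fs js z true) (Bool.rec (nt b) b c)
      | _ => .tt)
    split
    swap
    · trivial
    rename_i y c e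
    rw [e] at s
    rw [force_eq]
    cases b <;> cases c <;> exact ih ⟨C.lt h.1 s.1, by rw [C.mu h.1 s.1, E.mul_iff, h.2, s.2]; simp⟩

end

noncomputable def St.hsq (a : ℕ) : St.{u} where
  run W m _ := gd (blt a (sz W)) (force (m a a) fun x => .hh x true)
  ok {G} _ _ E W m fs xs C := gd_ok fun h => by
    have := blt_iff.1 h
    rw [force_eq]
    exact ⟨C.lt this this, by rw [C.mu this this, E.mul_iff]; simp⟩

noncomputable def St.hcm (ops : List T3) (d di x : ℕ) : St.{u} where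
  run W m fs := force (sz W) fun N => rsv N m fs .tt ops fun os =>
    gd (an (ivK N m d di) (rop m os d fun y => Nat.beq (m di y) x)) (.hh x true)
  ok {G} _ _ E W m fs xs C := by
    rw [force_eq]
    refine C.rsvF fun os g hg => gd_ok fun h => ?_
    obtain ⟨a, b, c⟩ := C.iv (an_iff.1 h).1
    obtain ⟨y, p, q⟩ := hg a (an_iff.1 h).2
    rw [← beq_iff.1 q]
    refine ⟨C.lt b p.2.1, ?_⟩
    rw [C.mu b p.2.1, E.mul_iff, c, inv_mem_iff, ← p.2.2, E.nH.mem_comm_iff]
    simp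

noncomputable def St.hmul (js : List ℕ) : St.{u} where
  run _ m fs := hmF m fs js (nat_lit 0) true
  ok {G} _ _ E W m fs xs C := C.hmF ⟨C.pos, by rw [show ev W xs (nat_lit 0) = 1 from C.z]; simp⟩

theorem Env.top (E : Env G) (h : E.t ∈ E.H) : E.H = ⊤ :=
  eq_top_iff.2 fun x _ => (E.ix x).elim id (mul_mem_cancel_right h).1

noncomputable def St.hall (i j t a : ℕ) : St.{u} where
  run W _ fs := gd (an (isT fs i t) (an (isH fs j t true) (blt a (sz W)))) (.hh a true)
  ok {G} _ _ E W m fs xs C := gd_ok fun h => by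
    simp only [an_iff, blt_iff] at h
    exact ⟨h.2.2, by simp [E.top ((C.isT h.1).2 ▸ (C.isH h.2.1).2.2 rfl)]⟩

noncomputable def St.th (i j t : ℕ) (b : Bool) : St.{u} where
  run _ _ fs := gd (an (isT fs i t) (isH fs j t b)) (.th b)
  ok {G} _ _ E W m fs xs C := gd_ok fun h => by
    show E.t ∈ E.H ↔ _
    rw [← (C.isT (an_iff.1 h).1).2]
    exact (C.isH (an_iff.1 h).2).2

noncomputable def St.oh (i j a n : ℕ) : St.{u} where
  run W _ fs := gd (an (isS fs i false (sz W)) (an (isH fs j a false) (Nat.beq (Nat.add n n) (sz W)))) (.oh n)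
  ok {G} _ _ E W m fs xs C := gd_ok fun h S hS => by
    simp only [an_iff, beq_iff] at h
    have := E.nH
    obtain ⟨a1, a2⟩ := C.isH h.2.1
    have i : (E.H.subgroupOf C.P).index = 2 := index_eq_two_iff'.2 ⟨⟨_, C.mem a1⟩, fun b => by
      rw [mem_subgroupOf, mem_subgroupOf, coe_mul, E.mul_iff, a2]
      by_cases k : (b : G) ∈ E.H <;> simp [k]⟩
    have c := (E.H.subgroupOf C.P).card_mul_index
    rw [i, C.cardP, ← inf_subgroupOf_left, Nat.card_congr (subgroupOfEquivOfLe inf_le_left).toEquiv,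
      (C.isS h.1).inf_normal.card_eq_card hS, ← h.2.2] at c
    change _ = n + n at c
    omega

noncomputable def St.ohG (i j k t : ℕ) : St.{u} where
  run W _ fs := force (sz W) fun N => gd (an (isS fs i false N) (an (isT fs j t) (isH fs k t true))) (.oh N)
  ok {G} _ _ E W m fs xs C := by
    rw [force_eq]
    refine gd_ok fun h S hS => ?_
    simp only [an_iff] at h
    rw [E.top ((C.isT h.2.1).2 ▸ (C.isH h.2.2).2.2 rfl)] at hS
    exact (hS.card_eq_card (C.isS h.1)).trans C.cardP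

noncomputable def St.sylH (i : ℕ) (js : List ℕ) : St.{u} where
  run W _ fs := match nf fs i with
    | .oh n => gd (an (Nat.beq n (sz W)) (al2 (fun a j => isH fs j a true) (tops W) js)) (.syl true n)
    | _ => .tt
  ok {G} _ _ E W m fs xs C := by
    have s := C.nth i
    split
    swap
    · trivial
    rename_i n e
    rw [e] at s
    refine gd_ok fun h => ?_
    obtain rfl := beq_iff.1 (an_iff.1 h).1
    obtain ⟨S, hS⟩ := exists_isSyl 2 E.H
    exact ⟨le_rfl, _, C.sb, hS.of_card_le C.pg (C.le fun a ha => (f2_left (al2_iff.1 (an_iff.1 h).2) ha).elim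
      fun j q => (C.isH q.2).2.2 rfl) ((s S hS).trans C.cardP.symm).le⟩

noncomputable def St.cl (cs : List (ℕ × List (ℕ × ℕ))) : St.{u} where
  run W m _ := force (sz W) fun N => force (llen W) fun d => clF N d m cs fun R rs =>
    gd (allBin (fun x => orr (tb R x) (nt (Nat.beq (m x x) (nat_lit 0)))) N d (nat_lit 0)) (.cl N rs)
  ok {G} _ _ E W m fs xs C := by
    rw [force_eq, force_eq]
    refine C.clF fun R rs a b => gd_ok fun h => ⟨le_rfl, fun r hr => ⟨(a r hr).1, fun S q => C.eqP q ▸ (a r hr).2⟩,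
      fun c hc c2 c1 => (b c (tb_iff.1 ((orr_iff.1 (C.allN h c hc)).resolve_right fun n => nt_iff.1 n
        (beq_iff.2 ((C.one (C.lt hc hc)).1 ((C.mu hc hc).trans c2)))))).resolve_left (mt (C.one hc).2 c1)⟩

noncomputable def St.xf (K : Bool) (i jh jc jn a : ℕ) (ys vs eb : List ℕ) : St.{u} where
  run W m fs := force (sz W) fun N => force (llen W) fun d => match nf fs jc with
    | .cl n rs => fL vs fun vs => fL eb fun eb => force (cev a4 W vs a) fun v => gd (an (Nat.beq n N) (an (isS fs i K N)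
        (an (isH fs jh a true) (an (Nat.beq (m a a) (nat_lit 0)) (an (lall (blt · (nat_lit 4)) vs) (an (relOK a4 W vs)
        (an (nt (Nat.beq v (nat_lit 0))) (an (lall (fun y => an (blt y N) (cm m y a)) ys)
        (lall (fun y => an (blt y N) (cm m y a)) eb))))))))) (force (cntM d (spn m d eb)) fun B => force (nfm fs jn a) fun M =>
          force (sel (fun r => an (Nat.ble (Nat.mul r.2 B) N) (an (nt (tb M r.1)) (nt (Nat.beq (cev a4 W vs r.1) v)))) rs)
            fun L => f2 (unk N ys) fun us => .rc [] ((a, L) :: us))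
    | _ => .tt
  ok {G} _ _ E W m fs xs C := by
    have s := C.nth jc
    rw [force_eq, force_eq]
    split
    swap
    · trivial
    rename_i n rs e
    rw [e] at s
    rw [fL_eq, fL_eq, force_eq]
    refine gd_ok fun h => ?_
    simp only [an_iff, lall_iff, blt_iff, beq_iff, nt_iff, force_eq, f2_eq] at h ⊢
    obtain ⟨rfl, h2, h3, h4, h5, h6, h7, h8, h9⟩ := h
    obtain ⟨a1, a2⟩ := C.isH h3
    obtain ⟨f, hf⟩ := C.lift (hm_of C.tw.1 C.tw.2 (relOK_spec hm4 h5 h6))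
    have v := fun x => hm4.cev (W := W) x h5
    have aa : ev W xs a * ev W xs a = 1 := by rw [← C.mu a1 a1, h4, C.z]
    have mk : ∀ x (hx : x ∈ C.P), x ∈ f.ker.map C.P.subtype ↔ f ⟨x, hx⟩ = 1 := fun x hx =>
      ⟨fun ⟨y, y1, y2⟩ => by obtain rfl : x = y := y2.symm; exact y1, fun q => ⟨_, q, rfl⟩⟩
    have n0 : ev W xs a ∉ f.ker.map C.P.subtype := fun q => h7 (z4_inj _ (v a).1 0 (by decide)
      ((v a).2.trans ((hf a a1).symm.trans ((mk _ _).1 q))))
    have := mt (xfer_in (T := C.P ⊓ 𝐜(ev W xs a)) (C.isS h2) (by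
      rw [← map_subtype_commutator]; exact map_mono (Abelianization.commutator_subset_ker f)) aa (by
      cases K
      exacts [commutator_mono le_top le_top (E.pH.ge (a2.2 rfl)), E.pH.ge (a2.2 rfl)]) (C.mem a1) inf_le_left
      ⟨C.mem a1, c1.2 rfl⟩ inf_le_right) n0
    push Not at this
    obtain ⟨g, -, g1, g2⟩ := this
    have ga := g1 (conj_mem_cj g ⟨C.mem a1, c1.2 rfl⟩)
    obtain ⟨r, hr, r1, r2, p, hp, r3⟩ := C.cl s ga (by rw [conj_mul, aa]; simp) fun e => n0 (by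
      rw [conj_eq_one_iff.1 e]; exact one_mem _)
    have e : p * g * ev W xs a * (p * g)⁻¹ = ev W xs r.1 := by rw [← r3]; group
    have l : cj[p * g] (C.P ⊓ 𝐜(ev W xs a)) ≤ C.P ⊓ 𝐜(ev W xs r.1) :=
      le_inf ((cj_mul _ _ _).trans_le (cj_le_of_mem hp g1)) ((cj_mono _ inf_le_right).trans (by rw [cj_c1, e]))
    refine ⟨p * g, fun _ h => (List.not_mem_nil h).elim, List.forall_mem_cons.2 ⟨⟨lt_of_bits fun x q => ?_, r.1, bit_sel.2 ⟨r, hr, ?_, rfl⟩,
      a1, r1, e⟩, C.unk fun y hy => ⟨(h8 y hy).1, (l (conj_mem_cj _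
        ⟨C.mem (h8 y hy).1, c1.2 ((C.cm (h8 y hy).1 a1).1 (h8 y hy).2)⟩)).1⟩⟩⟩
    · obtain ⟨r, hr, -, rfl⟩ := bit_sel.1 q
      exact (s.2.1 r hr).1
    refine an_iff.2 ⟨ble_iff.2 ((Nat.mul_le_mul_left _ ((C.spn_le (K := C.P ⊓ 𝐜(ev W xs a)) fun y hy => ⟨(h9 y hy).1, C.mem (h9 y hy).1,
      c1.2 ((C.cm (h9 y hy).1 a1).1 (h9 y hy).2)⟩).trans ((card_cj _ _).ge.trans (card_le_of_le l)))).trans r2),
      an_iff.2 ⟨nt_iff.2 fun q => C.nfm (tb_iff.1 q) (isConj_iff.2 ⟨_, e⟩), nt_iff.2 fun q => g2 ?_⟩⟩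
    have q1 : f ⟨_, C.mem r1⟩ = f ⟨_, C.mem a1⟩ := by rw [hf _ r1, hf _ a1, ← (v _).2, ← (v _).2, beq_iff.1 q]
    have q2 : (⟨_, C.mem r1⟩ : C.P) = ⟨p, hp⟩ * ⟨_, ga⟩ * ⟨p, hp⟩⁻¹ := Subtype.ext r3.symm
    rw [q2, map_mul, map_mul, map_inv, mul_inv_cancel_comm] at q1
    refine (mk _ (mul_mem (inv_mem (C.mem a1)) ga)).2 ?_
    rw [show (⟨_, mul_mem (inv_mem (C.mem a1)) ga⟩ : C.P) = ⟨_, C.mem a1⟩⁻¹ * ⟨_, ga⟩ from rfl, map_mul, map_inv, q1,
      inv_mul_cancel]

noncomputable def St.cls (two : Bool) (i jt jc t : ℕ) (ds : List (List T3 × ℕ × ℕ)) : St.{u} where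
  run W m fs := force (sz W) fun N => match nf fs jc with
    | .cl n rs => gd (an (Nat.beq n N) (an (isS fs i false N) (an (isT fs jt t) (al2 (fun r x =>
        an (rsv N m fs false x.1 fun os => rop m os r.1 (Nat.beq x.2.1)) (orr (Nat.beq x.2.1 t)
          (Bool.rec (isH fs x.2.2 x.2.1 true) (zen m W x.2.1) two))) rs ds)))) (Bool.rec .out .two two)
    | _ => .tt
  ok {G} _ _ E W m fs xs C := by
    have s := C.nth jc
    rw [force_eq]
    split
    swap
    · trivial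
    rename_i n rs e
    rw [e] at s
    refine gd_ok fun h => ?_
    simp only [an_iff, al2_iff, beq_iff, orr_iff] at h
    obtain ⟨rfl, h2, h3, h4⟩ := h
    have k : ∀ x : G, x * x = 1 → x ≠ 1 → IsConj x E.t ∨ ∃ g z j, z < sz W ∧ g * x * g⁻¹ = ev W xs z ∧
        (Bool.rec (isH fs j z true) (zen m W z) two : Bool) = true := fun x x2 x1 => by
      obtain ⟨g, -, l⟩ := (C.isS h2).exists_cj_le (isPGroup_zpowers (k := 1) (x := x) (by rw [pow_one, pow_two, x2])) le_top
      obtain ⟨r, hr, r1, -, p, -, r3⟩ := C.cl s (l (conj_mem_cj g (mem_zpowers x))) (by rw [conj_mul, x2]; simp)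
        (mt conj_eq_one_iff.1 x1)
      obtain ⟨y, -, y1, y2⟩ := f2_left h4 hr
      obtain ⟨q, hq⟩ := C.rsv (P := fun b => b = true → ∃ g, Mp (ev W xs) (sz W) g r.1 y.2.1) (by simp)
        (fun os g hg q => ⟨g, hg.eq r1 q⟩) y1
      have e : q * p * g * x * (q * p * g)⁻¹ = ev W xs y.2.1 := by rw [← hq.2.2, ← r3]; group
      exact y2.imp (fun c => isConj_iff.2 ⟨_, e.trans (by rw [c]; exact (C.isT h3).2)⟩) fun c => ⟨_, _, _, hq.2.1, e, c⟩
    cases two
    · refine fun x x2 n => (k x x2 fun e => n (e ▸ one_mem _)).elim id fun ⟨g, z, j, _, e, c⟩ => (n ?_).elim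
      simpa [← e, mul_assoc] using E.nH.conj_mem _ ((C.isH c).2.2 rfl) g⁻¹
    · refine fun x x2 x1 => (k x x2 x1).imp_right fun ⟨g, z, j, l, e, c⟩ => ⟨cj[g⁻¹] C.P, cj_top g⁻¹ ▸ (C.isS h2).cj g⁻¹,
        (cj_mono _ (C.zen l c)).trans (by rw [cj_c1, ← e]; simp [mul_assoc])⟩

noncomputable def St.cenS (i : ℕ) (kn : List T3) (ps Z : List ℕ) : St.{u} where
  run W m fs := force (sz W) fun N => f3 kn fun kn => fL (dm kn) fun ds => fL Z fun Z => gd (an (isS fs i false N)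
    (an (idK N m kn) (an (al2 (fun a b => an (ivK N m a b) (lall (fun r => inK m kn (force (m a r.1) fun x => m x b)) kn)) (tops W) ps)
    (an (lall (fun z => an (blt z N) (inK m kn z)) Z)
    (allBin (fun x => orr (nt (lall (cm m x) ds)) (lany (Nat.beq x) Z)) N (llen W) (nat_lit 0)))))) (.cen ds Z)
  ok {G} _ _ E W m fs xs C := by
    rw [force_eq, f3_eq, fL_eq, fL_eq]
    refine gd_ok fun h => ?_
    simp only [an_iff, al2_iff, lall_iff, blt_iff, force_eq] at h
    obtain ⟨h1, h2, h3, h4, h5⟩ := h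
    have k := C.idK h2
    have z : ∀ x ∈ C.P ⊓ 𝐂(Cl (ev W xs) (dm kn)), (∃ e ∈ Z, ev W xs e = x) ∧ x ∈ Cl (ev W xs) (dm kn) := fun x hx => by
      obtain ⟨e, he, rfl⟩ := C.cz k.lt h5 hx.1 hx.2
      exact ⟨⟨e, he, rfl⟩, C.inK k (h4 e he).1 (h4 e he).2⟩
    refine ⟨k.lt, fun e he => (h4 e he).1, fun x p q => z x (two_mem (((C.isS h1).mono (le_normalizer_centralizer
      (C.le fun a ha => (f2_left h3 ha).elim fun b r => C.nrm k r.2.1 r.2.2)) le_top).inf_of_le_normalizer le_normalizer le_rfl)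
      (fun y hy => le_centralizer_iff.1 le_rfl (z y hy).2) (cen_c.2 q) p)⟩

noncomputable def St.cenT (j t : ℕ) (kn : List T3) (Z ps : List ℕ) : St.{u} where
  run W m fs := force (sz W) fun N => match nf fs j with
    | .cen g els => f3 kn fun kn => fL (dm kn) fun ds => fL Z fun Z => gd (an (ivK N m t t) (an (idK N m kn)
      (an (lall (fun r => inK m kn (force (m t r.1) fun x => m x t)) kn)
      (an (lall (fun z => an (blt z N) (inK m kn z)) Z) (an (lall (fun a => orr (Nat.beq a t) (inK m kn a)) g)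
      (an (lall (fun e => orr (nt (lall (cm m e) ds)) (inK m kn e)) els)
      (an (al2 (fun z p => force (m z t) fun e => orr (nt (Nat.beq (m e e) (nat_lit 0))) (an (blt p N) (an (inK m kn p)
        (an (lall (cm m p) ds) (Nat.beq (m p t) (m e p)))))) Z ps)
      (allBin (fun x => orr (nt (lall (cm m x) ds)) (lany (Nat.beq x) Z)) N (llen W) (nat_lit 0))))))))) (.cen ds Z)
    | _ => .tt
  ok {G} _ _ E W m fs xs C := by
    have s := C.nth j
    rw [force_eq]
    split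
    swap
    · trivial
    rename_i g els e
    rw [e] at s
    rw [f3_eq, fL_eq, fL_eq]
    refine gd_ok fun h => ?_
    simp only [an_iff, al2_iff, lall_iff, blt_iff, force_eq, orr_iff, nt_iff, beq_iff] at h
    obtain ⟨h1, h2, h3, h4, h5, h6, h7, h8⟩ := h
    have k := C.idK h2
    obtain ⟨t1, -, t2⟩ := C.iv h1
    have tt := mul_eq_one_iff_eq_inv.2 t2
    have n := C.nrm k h1 h3
    have lP := C.clP k.lt
    have cc := fun {x} => cen_c (ψ := ev W xs) (l := dm kn) (x := x)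
    have ik := fun {a} => C.inK (a := a) k
    have cz := fun {x} => C.cz (x := x) k.lt h8
    obtain ⟨B, hB⟩ : ∃ B, Cl (ev W xs) (dm kn) = B := ⟨_, rfl⟩
    rw [hB] at n lP cc ik cz
    have nz := zpowers_le.2 (normalizer_le_normalizer_centralizer _ n)
    have nX : ev W xs t ∈ 𝐍(B ⊓ 𝐂(B)) := zpowers_le.1 (le_normalizer_inf (zpowers_le.2 n) nz)
    obtain ⟨R, sR, lR⟩ := exists_isSyl_ge (L := 𝐂(B) ⊔ zpowers (ev W xs t)) (isPGroup_sup
      (C.pg.to_le (inf_le_left.trans lP : B ⊓ 𝐂(B) ≤ _)) (C.pg.to_le (zpowers_le.2 (C.mem t1))) (zpowers_le.2 nX))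
      (sup_le_sup_right inf_le_right _)
    have sQ := sR.inf_of_le_normalizer le_sup_left (sup_le le_normalizer nz)
    have l : B ⊓ 𝐂(B) ≤ R ⊓ 𝐂(B) := le_inf (le_sup_left.trans lR) inf_le_right
    have := tlem tt sQ.isPGroup l (zpowers_le.1 (le_normalizer_inf ((le_sup_right.trans lR).trans le_normalizer) nz)) nX
      (fun x hx q => by
        obtain ⟨z, hz, rfl⟩ := cz (lP hx.1) hx.2
        obtain ⟨p, -, r⟩ := f2_left h7 hz
        have z1 := C.lt (h4 z hz).1 t1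
        rw [← C.mu (h4 z hz).1 t1] at q ⊢
        obtain ⟨p1, p2, p3, p4⟩ := r.resolve_left fun n => n ((C.one (C.lt z1 z1)).1 ((C.mu z1 z1).trans q))
        exact ⟨_, ⟨ik p1 p2, cc.2 fun a ha => ((C.cm p1 (k.lt a ha)).1 (p3 a ha)).symm⟩,
          mul_inv_eq_of_eq_mul ((C.eq p1 t1 z1 p1).1 p4)⟩) fun q hq c => by
        obtain ⟨e, he, rfl⟩ := (s.2.2 q (isPGroup_iff_forall.1 sQ.isPGroup q hq) fun a ha => (h5 a ha).elim
          (fun e => e ▸ c.symm) fun r => mem_centralizer_iff'.1 hq.2 _ (ik (s.1 a ha) r)).1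
        exact ⟨ik (s.2.1 e he) ((h6 e he).resolve_left fun n => n fun a ha =>
          (C.cm (s.2.1 e he) (k.lt a ha)).2 (cc.1 hq.2 a ha).symm), hq.2⟩
    refine ⟨k.lt, fun e he => (h4 e he).1, fun x p q => ?_⟩
    have y := two_mem (le_antisymm this l ▸ sQ) (fun y hy => le_centralizer_iff.1 le_rfl (mem_inf.1 hy).1) (cc.2 q) p
    exact ⟨cz (lP y.1) y.2, hB.ge y.1⟩

noncomputable def St.e8 (K : Bool) (i : ℕ) (l : List ℕ) : St.{u} where
  run W m fs := force (sz W) fun N => force (llen W) fun d => fL l fun l => force (spn m d l) fun R => gd (an (isS fs i K N)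
    (an (lall (fun a => an (blt a N) (lall (cm m a) l)) l) (an (Nat.beq (cntM d R) (nat_lit 8))
    (an (allM (fun x => Nat.beq (m x x) (nat_lit 0)) d R)
    (allBin (fun x => orr (nt (lall (cm m x) l)) (tb R x)) N d (nat_lit 0)))))) .dn
  ok {G} _ _ E W m fs xs C := by
    rw [force_eq, force_eq, fL_eq, force_eq]
    refine gd_ok fun h => ?_
    simp only [an_iff, lall_iff, blt_iff, beq_iff] at h
    obtain ⟨h1, h2, h3, h4, h5⟩ := h
    have l1 := fun a ha => (h2 a ha).1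
    obtain ⟨r1, r2⟩ := C.spn (K := Cl (ev W xs) l) fun a ha => ⟨l1 a ha, Cl.mem ha⟩
    have z : ∀ x ∈ C.P ⊓ 𝐂(Cl (ev W xs) l), ∃ a, (spn m (llen W) l).testBit a = true ∧ ev W xs a = x := by
      rintro _ ⟨⟨a, ha, rfl⟩, c⟩
      exact ⟨a, tb_iff.1 ((orr_iff.1 (C.allN h5 a ha)).resolve_left fun n => nt_iff.1 n
        (lall_iff.2 fun d hd => (C.cm ha (l1 d hd)).2 (cen_c.1 c d hd).symm)), rfl⟩
    have s : Sb (ev W xs) (Cl (ev W xs) l) ((spn m (llen W) l).testBit · = true) := fun x =>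
      ⟨fun hx => z x ⟨C.clP l1 hx, Cl.le (fun a ha => cen_c.2 fun b hb =>
        (C.cm (l1 b hb) (l1 a ha)).1 ((h2 b hb).2 a ha)) hx⟩, fun ⟨a, p, q⟩ => q ▸ r2 a p⟩
    have c := (C.card r1 s).trans ((C.cnt r1).symm.trans h3)
    refine .inl ⟨C.P, _, ?_, C.clP l1, fun x hx => ?_, c.ge, c.le, fun x hx => (s x).2 (z x hx)⟩
    · cases K
      exacts [.inl (C.isS h1), .inr (C.isS h1)]
    · obtain ⟨a, p, rfl⟩ := (s x).1 hx
      have := lt_of_bit r1 p
      rw [← C.mu this this, beq_iff.1 (allM_spec (C.pw r1) h4 a p)]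
      exact C.z

noncomputable def isTh (fs : List Fa) (j : ℕ) (b : Bool) : Bool := match nf fs j with
  | .th c => Bool.rec (nt c) c b
  | _ => false

theorem Cx.isTh {E : Env G} {W m fs xs} (C : Cx E W m fs xs) {j : ℕ} {b : Bool} (h : isTh fs j b = true) :
    E.t ∈ E.H ↔ b = true := by
  have s := C.nth j
  unfold HSo.isTh at h
  split at h
  · rename_i c e
    rw [e] at s
    exact beqB h ▸ s
  · cases h

noncomputable def St.c2 (i j a b : ℕ) (Z : List ℕ) : St.{u} where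
  run W m fs := force (sz W) fun N => fL Z fun Z => gd (an (isS fs i true N) (an (isTh fs j false) (an (Nat.beq N (nat_lit 256))
    (an (blt a N) (an (blt b N) (an (nt (cm m a b)) (an (lall (fun z => an (blt z N) (zen m W z)) Z)
    (lall (fun x => lall (fun y => lany (fun z => Nat.beq (m x y) (force (m y x) (m z))) Z) (tops W)) (tops W))))))))) .dn
  ok {G} _ _ E W m fs xs C := by
    rw [force_eq, fL_eq]
    refine gd_ok fun h => ?_
    simp only [an_iff, lall_iff, blt_iff, beq_iff, nt_iff, lany_iff, force_eq] at h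
    obtain ⟨h1, h2, h3, h4, h5, h6, h7, h8⟩ := h
    refine .inr (.inl ⟨by simpa using C.isTh h2, .inl ⟨C.P, C.isS h1, C.cardP.trans h3, fun l => h6 ((C.cm h4 h5).2
      (mem_centralizer_iff'.1 (l (C.mem h5)) _ (C.mem h4))), commutator_le.2 ?_⟩⟩)
    rintro _ ⟨x, hx, rfl⟩ _ ⟨y, hy, rfl⟩
    have n := fun {x y} (a : x ∈ C.P) => conj_mem_of_mem_normalizer (x := y)
      (normalizer_le_normalizer_centralizer _ (le_normalizer a))
    refine (C.ind (Q := fun x => x ∈ C.P ∧ ⁅x, ev W xs y⁆ ∈ 𝐂(C.P)) ⟨one_mem _, by simp⟩ (fun u v p q =>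
      ⟨mul_mem p.1 q.1, by convert mul_mem (n p.1 q.2) p.2 using 1; simp only [commutatorElement_def]; group⟩)
      (fun x hx => ⟨C.mem (C.top_lt hx), (C.ind (Q := fun y => y ∈ C.P ∧ ⁅ev W xs x, y⁆ ∈ 𝐂(C.P)) ⟨one_mem _, by simp⟩
        (fun u v p q => ⟨mul_mem p.1 q.1, by
          convert mul_mem p.2 (n p.1 q.2) using 1; simp only [commutatorElement_def]; group⟩)
        (fun y hy => ⟨C.mem (C.top_lt hy), ?_⟩) y hy).2⟩) x hx).2
    obtain ⟨z, hz, e⟩ := h8 x hx y hy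
    have x1 := C.top_lt hx
    have y1 := C.top_lt hy
    rw [C.eq x1 y1 (h7 z hz).1 (C.lt y1 x1), C.mu y1 x1] at e
    rw [show ⁅ev W xs x, ev W xs y⁆ = ev W xs z by rw [commutatorElement_def, e]; group]
    exact mem_centralizer_iff'.2 fun p hp => c1.1 (C.zen (h7 z hz).1 (h7 z hz).2 hp)

theorem Cx.md {E : Env G} {W m fs xs} (C : Cx E W m fs xs) {i : ℕ} {V : List Lv} (h : HSo.isS fs i true (sz W) = true)
    (e : weq W V = true) : E.Md V := weq_spec e ▸ ⟨xs, C.tw, C.rel, C.inj, _, C.sb, C.isS h⟩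

noncomputable def St.mUT (i j k : ℕ) : St.{u} where
  run W _ fs := match nf fs k with
    | .out => gd (an (isS fs i true (sz W)) (an (isTh fs j false) (weq W UTW))) .dn
    | _ => .tt
  ok C := by
    have s := C.nth k
    split
    swap
    · trivial
    rename_i e
    rw [e] at s
    refine gd_ok fun h => ?_
    simp only [an_iff] at h
    exact .inr (.inl ⟨by simpa using C.isTh h.2.1, .inr (.inl ⟨s, C.md h.1 h.2.2⟩)⟩)

noncomputable def St.mSU (i j : ℕ) : St.{u} where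
  run W _ fs := gd (an (isS fs i true (sz W)) (an (isTh fs j false) (weq W SUW))) .dn
  ok C := by
    refine gd_ok fun h => ?_
    simp only [an_iff] at h
    exact .inr (.inl ⟨by simpa using C.isTh h.2.1, .inr (.inr (C.md h.1 h.2.2))⟩)

noncomputable def St.mHS (i j k l : ℕ) : St.{u} where
  run W _ fs := match nf fs k, nf fs l with
    | .two, .fl => gd (an (isS fs i true (sz W)) (an (isTh fs j true) (weq W HSW))) .dn
    | _, _ => .tt
  ok C := by
    have s := C.nth k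
    have s' := C.nth l
    split
    swap
    · trivial
    rename_i e e'
    rw [e] at s
    rw [e'] at s'
    refine gd_ok fun h => ?_
    simp only [an_iff] at h
    exact .inr (.inr ⟨(C.isTh h.2.1).2 rfl, s', s, C.md h.1 h.2.2⟩)

end CF.HSo
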