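import Cfsg.Agent.HSo.G

/-!
The nodes of a proof tree: extensions and normalizers; decoders.
-/

set_option autoImplicit false
set_option linter.unusedSectionVars false

namespace CF.HSo
open CF.Comp Subgroup CF.Loc

universe u

variable {G : Type u} [Group G] [Finite G]

/-- an element whose square acts as an inner automorphism acts as a `2`-element -/
theorem two_part {P : Subgroup G} (p : IsPGroup 2 P) {g y : G} (hy : y ∈ P) (c : y⁻¹ * (g * g) ∈ 𝐂(P)) :
    ∃ x, (∃ k, x ^ 2 ^ k = 1) ∧ ∀ z ∈ P, x * z * x⁻¹ = g * z * g⁻¹ := by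
  obtain ⟨a, b, -, hb, ⟨j, o⟩, cb, e⟩ := exists_p_part (p := 2) (isOfFinOrder_of_finite g)
  have pw : ∀ {K : Subgroup G} k, b ^ 2 ^ k ∈ K → b ∈ K := fun k h =>
    zpowers_le.2 h (mem_zpowers_pow_iff.2 (cb.symm.pow_left k))
  have b1 : b ∈ P ⊔ 𝐂(P) := pw 1 (by
    obtain ⟨n, rfl⟩ := hb
    rw [pow_one, ← zpow_natCast, ← zpow_mul, mul_comm, zpow_mul, zpow_natCast, pow_two]
    exact zpow_mem ((mul_mem_cancel_left (inv_mem (mem_sup_left hy))).1 (mem_sup_right c)) n)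
  obtain ⟨u, hu, v, hv, rfl⟩ := (mem_sup_of_le_normalizer (centralizer_le_normalizer _)).1 b1
  obtain ⟨k, hk⟩ := isPGroup_iff_forall.1 p u hu
  have b2 := pw k (by
    rw [Commute.mul_pow (mem_centralizer_iff'.1 hv u hu), hk, one_mul]; exact pow_mem hv _)
  refine ⟨a, ⟨j, o ▸ pow_orderOf_eq_one a⟩, fun z hz => ?_⟩
  rw [e]
  nth_rewrite 1 [← conj_eq_of_mem_centralizer b2 hz]
  group

noncomputable def Nd.ext (i j p e : ℕ) (A : List ℕ) (lv : List (Lv × Nd.{u})) : Nd.{u} where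
  chk W m fs := force (sz W) fun N => match nf fs j with
    | .cen _ els => fw (nf fs i).kn fun kn => fL A fun A =>
      an (al2 (fun a b => sift m kn a (Nat.beq b)) (tops W) A) (an (blt p N)
      (an (al2 (fun a b => sift m kn b fun c => Nat.beq (m c p) (m p a)) (tops W) A) (an (blt e N)
      (an (sift m kn e fun c => allBin (fun x => nt (Nat.beq (m x e) (m c x))) N (llen W) (nat_lit 0))
      (an (lall (fun z => force (m p z) fun q => orr (sift m kn q fun c => nt (Nat.beq c q))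
        (lany (fun l => Nat.beq (l.1.B (nat_lit 0)) q) lv)) els)
      (lall (fun l => Prod.rec (motive := fun _ => Bool) (fun L n => an (lvOK m W L)
        (an (al2 (fun L' b => Nat.beq (L.A L'.top) b) W A) (n.chk (L :: W) (lvl L m) fs))) l) lv))))))
    | _ => false
  ok {G} _ _ E W m fs xs C h := by
    have s := C.nth j
    rw [force_eq] at h
    split at h
    swap
    · cases h
    rename_i g0 els e0
    rw [e0] at s
    obtain ⟨g, hg⟩ := C.kn i
    rw [fw_eq, fL_eq] at h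
    generalize (nf fs i).kn = kn at h hg
    simp only [an_iff, force_eq, al2_iff, lall_iff, beq_iff, blt_iff, orr_iff, lany_iff] at h
    obtain ⟨h1, h2, h3, h4, h5, h6, h7⟩ := h
    have m1 := f2_imp h1 fun a ha b _ r => show Mp (ev W xs) (sz W) g a b from by
      obtain ⟨x, p, q⟩ := (C.sift hg (C.top_lt ha) r).2
      exact beq_iff.1 q ▸ p
    have n : g ∈ 𝐍(C.P) := mem_normalizer_of_cj_le (map_le_iff_le_comap.2 (C.le fun a ha =>
      (f2_left m1 ha).elim fun b r => mem_cm r.2.2.2 (C.mem r.2.2.1)))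
    have c : (ev W xs p)⁻¹ * (g * g) ∈ 𝐂(C.P) := mem_centralizer_iff'.2 fun y hy => c1.1 (C.le (K := 𝐜(_)) (fun a ha => by
      obtain ⟨k, k1, rfl⟩ := List.getElem_of_mem ha
      have u := List.Forall₂.get m1 k1 (m1.length_eq ▸ k1)
      obtain ⟨x, v, w⟩ := (C.sift hg u.2.1 (List.Forall₂.get h3 k1 (m1.length_eq ▸ k1))).2
      have w := (C.eq v.2.1 h2 h2 u.1).1 (beq_iff.1 w)
      rw [← v.2.2, ← u.2.2] at w
      refine c1.2 ?_
      change ev W xs ((tops W).get ⟨k, k1⟩) * _ = _ * ev W xs ((tops W).get ⟨k, k1⟩)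
      generalize ev W xs ((tops W).get ⟨k, k1⟩) = y at w ⊢
      calc y * ((ev W xs p)⁻¹ * (g * g)) = (ev W xs p)⁻¹ * (ev W xs p * y) * (ev W xs p)⁻¹ * (g * g) := by group
        _ = _ := by rw [← w]; group) hy)
    obtain ⟨x, ⟨k, xk⟩, ac⟩ := two_part C.pg (C.mem h2) c
    have nx : x ∈ 𝐍(C.P) := mem_normalizer_of_cj_le (cj_le_iff_forall.2 fun y hy =>
      ac y hy ▸ conj_mem_of_mem_normalizer n hy)
    obtain ⟨z, hz, ez⟩ := (s.2.2 ((ev W xs p)⁻¹ * (x * x)) (isPGroup_iff_forall.1 (isPGroup_sup C.pg (isPGroup_zpowers xk)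
      (zpowers_le.2 nx)) _ (mul_mem (mem_sup_left (inv_mem (C.mem h2))) (mem_sup_right (mul_mem (mem_zpowers x) (mem_zpowers x)))))
      fun a ha => by
        have y := C.mem (s.1 a ha)
        generalize ev W xs a = y' at y
        have := mem_centralizer_iff'.1 c _ y
        have q : x * x * y' = g * g * y' * (g * g)⁻¹ * (x * x) := by
          rw [show g * g * y' * (g * g)⁻¹ = g * (g * y' * g⁻¹) * g⁻¹ by group, ← ac y' y,
            ← ac _ (conj_mem_of_mem_normalizer nx y)]; group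
        calc _ = y' * ((ev W xs p)⁻¹ * (g * g)) * ((g * g)⁻¹ * (x * x)) := by group
          _ = _ := by rw [this, mul_assoc _ (x * x), q]; group).1
    have q1 := C.lt h2 (s.2.1 z hz)
    have q2 : ev W xs (m p z) = x * x := by rw [C.mu h2 (s.2.1 z hz), ez, mul_inv_cancel_left]
    obtain ⟨⟨L, nd⟩, hl, l0⟩ := (h6 z hz).resolve_left fun r => by
      obtain ⟨y, r1, r2⟩ := (C.sift hg q1 r).2
      exact nt_iff.1 r2 (beq_iff.2 (C.inj _ r1.2.1 _ q1 (by rw [← r1.2.2, ← ac _ (C.mem q1), q2]; group)))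
    obtain ⟨l1, a2, l3⟩ := h7 _ hl
    have tw := C.tw.cons C.meq l1
    have tp : L.top = sz W := tw.1.2.1
    have xP : ∀ a < sz W, ∀ b < sz W, ev W xs a ≠ ev W xs b * x := fun a ha b hb r => by
      obtain ⟨y, y1, y2⟩ : x ∈ C.P := (mul_mem_cancel_left (C.mem hb)).1 (r ▸ C.mem ha)
      obtain ⟨w, w1, w2⟩ := (C.sift hg h4 h5).2
      refine nt_iff.1 (C.allN w2 y y1) (beq_iff.2 ((C.eq y1 h4 w1.2.1 y1).2 ?_))
      rw [← w1.2.2, ← ac _ (C.mem h4), y2, inv_mul_cancel_right]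
    refine nd.ok (xs := x :: xs) ⟨tw, ⟨C.rel, (congrArg _ l0).trans q2, fun L' hL => ?_⟩, C.meq.cons tw.1, fun a ha b hb r => ?_,
      fun f hf => (C.fa f hf).mono (fun a ha => ev_lo (tp ▸ ha)) (tp ▸ Nat.le_add_right _ _)⟩ l3
    · obtain ⟨k, k1, rfl⟩ := List.getElem_of_mem hL
      rw [tops, lmap_eq, List.forall₂_map_left_iff] at m1
      have u := List.Forall₂.get m1 k1 (m1.length_eq ▸ k1)
      exact (congrArg _ (List.Forall₂.get a2 k1 (m1.length_eq ▸ k1))).trans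
        (u.2.2.symm.trans (ac _ (C.mem u.1)).symm)
    · change a < L.top + L.top at ha
      change b < L.top + L.top at hb
      rcases lt_or_ge a L.top with c1 | c1 <;> rcases lt_or_ge b L.top with c2 | c2
      · exact C.inj _ (tp ▸ c1) _ (tp ▸ c2) (by rwa [ev_lo c1, ev_lo c2] at r)
      · rw [ev_lo c1, ev_hi c2] at r
        exact (xP _ (tp ▸ c1) _ (by omega) r).elim
      · rw [ev_hi c1, ev_lo c2] at r
        exact (xP _ (tp ▸ c2) _ (by omega) r.symm).elim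
      · rw [ev_hi c1, ev_hi c2] at r
        have := C.inj _ (by omega) _ (by omega) (mul_right_cancel r)
        omega

noncomputable def Nd.xsp (i jl a : ℕ) (ys : List ℕ) (n1 n2 : Nd.{u}) : Nd.{u} where
  chk W m fs := force (sz W) fun N => force (llen W) fun d => match nf fs jl with
    | .cl n rs => fL ys fun ys => an (Nat.beq n N) (an (isS fs i false N) (an (ivK N m a a) (an (nt (Nat.beq a (nat_lit 0)))
      (an (lall (fun y => an (blt y N) (cm m y a)) ys) (force (filM (cm m a) d (full N)) fun M => force (cntM d M) fun k =>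
        an (n1.chk W m (.tsy a M k :: fs)) (force (sel (fun r => Nat.ble (Nat.mul r.2 (Nat.succ k)) N) rs) fun L =>
          f2 (unk N ys) fun us => n2.chk W m (.rc [] ((a, L) :: us) :: fs)))))))
    | _ => false
  ok {G} _ _ E W m fs xs C h := by
    have s := C.nth jl
    rw [force_eq, force_eq] at h
    split at h
    swap
    · cases h
    rename_i n rs e
    rw [e] at s
    simp only [an_iff, force_eq, lall_iff, beq_iff, blt_iff, nt_iff, fL_eq, f2_eq] at h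
    obtain ⟨rfl, h2, h3, h4, h5, h6, h7⟩ := h
    obtain ⟨a1, -, a2⟩ := C.iv h3
    have f := filM_spec (f := cm m a) (C.pw (full_lt (sz W)))
    generalize filM (cm m a) (llen W) (full (sz W)) = M at f h6 h7
    have l : M < 2 ^ sz W := f.1.trans_eq (congrArg _ C.tw.1.sz_eq.symm)
    have sb : Sb (ev W xs) (C.P ⊓ 𝐜(ev W xs a)) (M.testBit · = true) := fun x => by
      constructor
      · rintro ⟨⟨b, hb, rfl⟩, c⟩
        exact ⟨b, (f.2 b).2 ⟨bit_full.2 hb, (C.cm a1 hb).2 (c1.1 c).symm⟩, rfl⟩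
      · rintro ⟨b, hb, rfl⟩
        have := bit_full.1 ((f.2 b).1 hb).1
        exact ⟨C.mem this, c1.2 ((C.cm a1 this).1 ((f.2 b).1 hb).2).symm⟩
    have cd := (C.card l sb).trans (C.cnt l).symm
    obtain ⟨S, sS, lS⟩ := exists_isSyl_ge (C.pg.to_inf_left (K := 𝐜(ev W xs a))) inf_le_right
    rcases lS.eq_or_lt with e | e
    · exact C.run h6 ⟨a1, l, _, sb, e ▸ sS, cd⟩
    obtain ⟨g, -, lg⟩ := (C.isS h2).exists_cj_le sS.isPGroup le_top
    have aS := lS ⟨C.mem a1, c1.2 rfl⟩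
    obtain ⟨r, hr, r1, r2, p, hp, r3⟩ := C.cl s (lg (conj_mem_cj g aS)) (by
      rw [conj_mul, mul_eq_one_iff_eq_inv.2 a2]; simp) (mt (fun e => (C.one a1).1 (conj_eq_one_iff.1 e)) h4)
    have e1 : p * g * ev W xs a * (p * g)⁻¹ = ev W xs r.1 := by rw [← r3]; group
    have l1 : cj[p * g] S ≤ C.P ⊓ 𝐜(ev W xs r.1) :=
      le_inf ((cj_mul _ _ _).trans_le (cj_le_of_mem hp lg)) ((cj_mono _ sS.le).trans (by rw [cj_c1, e1]))
    refine C.run h7 ⟨p * g, fun _ h => (List.not_mem_nil h).elim, List.forall_mem_cons.2 ⟨⟨lt_of_bits fun x q => ?_, r.1,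
      bit_sel.2 ⟨r, hr, ?_, rfl⟩, a1, r1, e1⟩, C.unk fun y hy => ⟨(h5 y hy).1, (l1 (conj_mem_cj _
        (lS ⟨C.mem (h5 y hy).1, c1.2 ((C.cm (h5 y hy).1 a1).1 (h5 y hy).2)⟩))).1⟩⟩⟩
    · obtain ⟨r, hr, -, rfl⟩ := bit_sel.1 q
      exact (s.2.1 r hr).1
    · exact ble_iff.2 ((Nat.mul_le_mul_left _ (Nat.succ_le_of_lt ((cd.ge.trans_lt (lt_of_not_ge fun k => e.ne
        (eq_of_le_of_card_ge lS k))).trans_le
        ((card_cj _ _).ge.trans (card_le_of_le l1))))).trans r2)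

noncomputable def nrmK (N d : ℕ) (m : Op2) (fs : List Fa) (js jc t M : ℕ) (ta : List ℕ) (k : List ℕ → Bool) : Bool :=
  match nf fs js, nf fs jc with
    | .stb t' g M' al, .cen g0 _ => an (Nat.beq t' t) (an (subM M M') (an (lall (tb M) g) (an (lall (tb M) g0)
      (an (subM M (spn m d (t :: g))) (an (al2 (fun x p => an (tb M p) (al2 (fun a c => an (blt c N)
        (Nat.beq (m p a) (m c p))) g x)) al ta) (k g))))))
    | _, _ => false

theorem Cx.nrmK {E : Env G} {W m fs xs} (C : Cx E W m fs xs) {js jc t M n : ℕ} {ta : List ℕ} {k : List ℕ → Bool}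
    (s : Sem E (ev W xs) (sz W) (.tsy t M n)) (h : nrmK (sz W) (llen W) m fs js jc t M ta k = true) :
    ∃ g, k g = true ∧ (∀ a ∈ g, a < sz W) ∧ C.P ⊓ 𝐜(ev W xs t) ≤ Cl (ev W xs) (t :: g) ∧
      (∀ w ∈ 𝐍(C.P ⊓ 𝐜(ev W xs t)), w * ev W xs t * w⁻¹ = ev W xs t → ∃ p ∈ C.P ⊓ 𝐜(ev W xs t),
        p⁻¹ * w ∈ 𝐂(C.P ⊓ 𝐜(ev W xs t))) ∧
      ∀ v ∈ 𝐍(C.P), v ∈ 𝐂(C.P ⊓ 𝐜(ev W xs t)) → ∃ p ∈ C.P, ∀ b ∈ C.P, v * b * v⁻¹ = p * b * p⁻¹ := by
  have s1 := C.nth js
  have s2 := C.nth jc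
  unfold HSo.nrmK at h
  split at h
  swap
  · cases h
  rename_i t' g M' al g0 els e1 e2
  rw [e1] at s1
  rw [e2] at s2
  simp only [an_iff, lall_iff, beq_iff, blt_iff, al2_iff, tb_iff] at h
  obtain ⟨rfl, h2, h3, h4, h5, h6, h7⟩ := h
  obtain ⟨sb, -, -⟩ := C.tsy s (.inr trivial)
  have l : C.P ⊓ 𝐜(ev W xs t') ≤ Cl (ev W xs) (t' :: g) := fun x hx => by
    obtain ⟨a, ha, rfl⟩ := (sb x).1 hx
    exact (C.spn fun a ha => ⟨(List.mem_cons.1 ha).elim (· ▸ s1.1) (s1.2.1 a), Cl.mem ha⟩).2 a (subM_spec h5 ha)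
  refine ⟨g, h7, s1.2.1, l, fun w n c => ?_, fun v n c => ?_⟩
  · obtain ⟨cs, q⟩ := f2_ex (l := g) (R := fun a c => M'.testBit c = true ∧ w * ev W xs a * w⁻¹ = ev W xs c) fun a ha =>
      ((sb _).1 (conj_mem_of_mem_normalizer n ((sb _).2 ⟨a, h3 a ha, rfl⟩))).imp fun c r => ⟨subM_spec h2 r.1, r.2.symm⟩
    obtain ⟨p, -, p1, p2⟩ := f2_left h6 (s1.2.2.2 w cs c q)
    have p3 := (sb _).2 ⟨p, p1, rfl⟩
    have p4 := lt_of_bit s.2.1 p1
    refine ⟨_, p3, centralizer_anti l (cen_c.2 (List.forall_mem_cons.2 ⟨?_, fun a ha => ?_⟩))⟩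
    · have := c1.1 (mem_inf.1 (inv_mem p3)).2
      rw [mul_assoc, mul_inv_eq_iff_eq_mul.1 c, ← mul_assoc, ← mul_assoc, this]
    · obtain ⟨k, k1, rfl⟩ := List.getElem_of_mem ha
      have u := (List.Forall₂.get q k1 (q.length_eq ▸ k1)).2
      have v := List.Forall₂.get p2 k1 (q.length_eq ▸ k1)
      have v := (C.eq p4 (s1.2.1 _ ha) v.1 p4).1 v.2
      rw [← u] at v
      change ev W xs p * ev W xs g[k] = w * ev W xs g[k] * _ * _ at v
      calc ev W xs g[k] * ((ev W xs p)⁻¹ * w) = (ev W xs p)⁻¹ * (ev W xs p * ev W xs g[k]) * ((ev W xs p)⁻¹ * w) := by group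
        _ = _ := by rw [v]; group
  · obtain ⟨e, he, q⟩ := cen_act s2 C.pg (C.clP s2.1) n (centralizer_anti (Cl.le fun a ha => (sb _).2 ⟨a, h4 a ha, rfl⟩) c)
    exact ⟨_, C.mem (s2.2.1 e he), q⟩

noncomputable def Nd.nrm (j js jc jl jn : ℕ) (ta : List ℕ) (br : List ((ℕ × ℕ × List ℕ) × Nd.{u})) (nd : Nd.{u}) : Nd.{u} where
  chk W m fs := force (sz W) fun N => force (llen W) fun d => match nf fs j, nf fs jl with
    | .tsy t M k, .cl n rs => an (Nat.beq n N) (an (ivK N m t t) (an (nt (Nat.beq t (nat_lit 0)))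
      (nrmK N d m fs js jc t M ta fun g => an (force (nfm fs jn t) fun X => lall (fun r => orr (Nat.beq r.1 t)
        (orr (blt N (Nat.mul r.2 k)) (orr (tb X r.1) (lany (fun b => Nat.beq r.1 b.1.1) br)))) rs)
      (an (lall (fun b => fw (nf fs b.1.2.1).kn fun kn => fL b.1.2.2 fun ds => an (sift m kn t (Nat.beq b.1.1))
        (an (lall (inK m kn) g) (an (lall (fun x => tb M x.1) kn) (an (lall (blt · N) ds)
        (f2 (unk N ds) fun us => b.2.chk W m (.rc kn us :: fs)))))) br) (nd.chk W m (.sn N :: fs))))))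
    | _, _ => false
  ok {G} _ _ E W m fs xs C h := by
    have s := C.nth j
    have s' := C.nth jl
    rw [force_eq, force_eq] at h
    split at h
    swap
    · cases h
    rename_i t M k n rs e e'
    rw [e] at s
    rw [e'] at s'
    simp only [an_iff, beq_iff, nt_iff] at h
    obtain ⟨rfl, h2, h3, h4⟩ := h
    obtain ⟨g, h4, g1, l, k1, k2⟩ := C.nrmK s h4
    simp only [an_iff, force_eq, lall_iff, beq_iff, blt_iff, orr_iff, lany_iff, fw_eq, fL_eq, f2_eq, tb_iff] at h4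
    obtain ⟨h5, h6, h7⟩ := h4
    by_contra hc
    refine hc (C.run h7 ⟨le_rfl, fun x hx => ?_⟩)
    have nx : x ∈ 𝐍(C.P) := mem_normalizer_of_cj_le (cj_le_iff_forall.2 (by
      rintro _ ⟨a, ha, rfl⟩
      exact (hx a ha).imp fun b r => ⟨r.1, r.2.symm⟩))
    obtain ⟨t1, -, t2⟩ := C.iv h2
    obtain ⟨sb, -, cd⟩ := C.tsy s (.inr trivial)
    obtain ⟨r, hr, r1, r2, p, hp, r3⟩ := C.cl s' (conj_mem_of_mem_normalizer nx (C.mem t1)) (by
      rw [conj_mul, mul_eq_one_iff_eq_inv.2 t2]; simp) (mt (fun e => (C.one t1).1 (conj_eq_one_iff.1 e)) h3)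
    have ny := mul_mem (le_normalizer hp) nx
    have e1 : p * x * ev W xs t * (p * x)⁻¹ = ev W xs r.1 := by rw [← r3]; group
    have e2 : cj[p * x] (C.P ⊓ 𝐜(ev W xs t)) = C.P ⊓ 𝐜(ev W xs r.1) := by rw [cj_inf, cj_eq_self ny, cj_c1, e1]
    rcases h5 r hr with c | c | c | ⟨b, hb, c⟩
    · rw [c] at e1 e2
      obtain ⟨u, hu, v⟩ := k1 _ (cj_eq_self_iff.1 e2) e1
      obtain ⟨y, hy, q⟩ := k2 _ (mul_mem (le_normalizer (inv_mem (mem_inf.1 hu).1)) ny) v
      obtain ⟨z, z1, z2⟩ := mul_mem (mul_mem (inv_mem hp) (mem_inf.1 hu).1) hy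
      refine ⟨z, z1, fun a ha => ?_⟩
      rw [z2, show p⁻¹ * u * y * ev W xs a * (p⁻¹ * u * y)⁻¹ = p⁻¹ * u * (y * ev W xs a * y⁻¹) * (p⁻¹ * u)⁻¹ by group,
        ← q _ (C.mem ha)]
      group
    · rw [← e2, card_cj, cd] at r2
      exact absurd r2 (not_le.2 c)
    · exact (C.nfm c (isConj_iff.2 ⟨_, e1⟩)).elim
    obtain ⟨b1, b2, b3, b4, b5⟩ := h6 b hb
    obtain ⟨w, hw⟩ := C.kn b.1.2.1
    obtain ⟨_, w1, w2⟩ := (C.sift hw t1 b1).2
    rw [← beq_iff.1 w2, ← c] at w1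
    have e3 : cj[w] (C.P ⊓ 𝐜(ev W xs t)) = cj[p * x] (C.P ⊓ 𝐜(ev W xs t)) := eq_of_le_of_card_ge (e2 ▸ le_inf
      (map_le_iff_le_comap.2 (l.trans (Cl.le (List.forall_mem_cons.2 ⟨mem_cm w1.2.2 (C.mem r1), fun a ha =>
        (C.sift hw (g1 a ha) (b2 a ha)).2.elim fun y q => mem_cm q.1.2.2 (C.mem q.1.2.1)⟩))))
      ((cj_mono _ inf_le_right).trans (by rw [cj_c1, w1.2.2]))) (by rw [card_cj, card_cj])
    obtain ⟨u, hu, v⟩ := k1 (w⁻¹ * (p * x)) (cj_eq_self_iff.1 (by rw [cj_mul, ← e3, cj_inv_cj])) (by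
      rw [show w⁻¹ * (p * x) * ev W xs t * (w⁻¹ * (p * x))⁻¹ = w⁻¹ * (p * x * ev W xs t * (p * x)⁻¹) * w by group, e1,
        ← w1.2.2]; group)
    have nz := mul_mem ny (le_normalizer (inv_mem (mem_inf.1 hu).1))
    refine (hc (C.run b5 ⟨p * x * u⁻¹, fun y hy => ⟨⟨(hw y hy).1.1, (hw y hy).1.2.1, ?_⟩, (hw y hy).2⟩,
      C.unk fun y hy => ⟨b4 y hy, conj_mem_of_mem_normalizer nz (C.mem (b4 y hy))⟩⟩)).elim
    have := conj_eq_of_mem_centralizer v (mul_mem (mul_mem (inv_mem hu) ((sb _).2 ⟨_, b3 y hy, rfl⟩)) hu)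
    rw [← (hw y hy).1.2.2]
    calc _ = w * u * (u⁻¹ * (w⁻¹ * (p * x)) * (u⁻¹ * ev W xs y.1 * u) * (u⁻¹ * (w⁻¹ * (p * x)))⁻¹) * (w * u)⁻¹ := by group
      _ = _ := by rw [this]; group

/-! products and goals -/

def Mq (W : List Lv) (m : Op2) : Prop := Bd W → Meq W m

theorem Mq.cons {L : Lv} {r : List Lv} {m : Op2} (h : Mq r m) : Mq (L :: r) (lvl L m) := fun b => (h b.1).cons b

theorem Mq.nil : Mq [] fun _ _ => nat_lit 0 := fun _ => Meq.mul []

theorem Mq.tab {W : List Lv} {m : Op2} {k T : ℕ} (h : Mq W m) (e : an (Nat.beq k (llen W)) (force (sz W) fun N =>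
    allBin (fun a => allBin (fun b => Nat.beq (ft k T a b) (m a b)) N k (nat_lit 0)) N k (nat_lit 0)) = true) :
    Mq W (ft k T) := fun b => by
  obtain ⟨e1, e2⟩ := an_iff.1 e
  obtain rfl := beq_iff.1 e1
  exact (h b).tab b (by rwa [force_eq] at e2)

theorem Tw.mq {L : Lv} {r : List Lv} {m : Op2} (h : Tw r) (q : Mq r m) (k : lvOK m r L = true) : Tw (L :: r) :=
  h.cons (q h.1) k

noncomputable def fFa (f : Fa) (k : Fa → Bool) : Bool :=
  Fa.rec (motive := fun _ => Bool) (k .tt) (k .dn) (k .fl) (k .out) (k .two) (fun a b => f3 a fun a => f2 b fun b => k (.rc a b))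
    (fun a b => k (.nf a b)) (fun a b => fL a fun a => fL b fun b => k (.cen a b))
    (fun a b c d => fL b fun b => fLL d fun d => k (.stb a b c d)) (fun a b c => k (.tsy a b c)) (fun a b => k (.hh a b))
    (fun a => k (.is a)) (fun a b => k (.syl a b)) (fun a => k (.sn a)) (fun a => k (.oh a)) (fun a => k (.th a))
    (fun a b => f2 b fun b => k (.cl a b)) f

noncomputable def fF (l : List Fa) : (List Fa → Bool) → Bool :=
  List.rec (motive := fun _ => (List Fa → Bool) → Bool) (fun k => k []) (fun x _ ih k => fFa x fun a => ih fun r => k (a :: r)) l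

theorem fF_eq (l : List Fa) (k : List Fa → Bool) : fF l k = k l := by
  induction l generalizing k with
  | nil => rfl
  | cons x l ih =>
    show fFa x (fun a => fF l fun r => k (a :: r)) = _
    cases x <;> simp only [fFa, f3_eq, f2_eq, fL_eq, fLL_eq, ih]

theorem Gl.mq {W : List Lv} {m : Op2} {fs : List Fa} (h : Mq W m) (n : Nd.{u}) (k : fF fs (n.chk W m) = true) :
    Gl.{u} W fs := fun C => n.ok ⟨C.tw, C.rel, h C.tw.1, C.inj, C.fa⟩ ((fF_eq fs (n.chk W m)).symm.trans k)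

/-! decoders -/

noncomputable def v1 (n : ℕ) : ℕ → List ℕ :=
  Nat.rec (motive := fun _ => ℕ → List ℕ) (fun _ => []) (fun _ ih x =>
    force (Nat.land x (nat_lit 15)) fun a => force (Nat.shiftRight x (nat_lit 4)) fun y => a :: ih y) n

/-- a list with its length in front -/
noncomputable def w1 (x : ℕ) : List ℕ := u1 (Nat.land x (nat_lit 4095)) (Nat.shiftRight x (nat_lit 12))
noncomputable def w2 (x : ℕ) : List (ℕ × ℕ) := u2 (Nat.land x (nat_lit 4095)) (Nat.shiftRight x (nat_lit 12))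
noncomputable def w3 (x : ℕ) : List T3 := u3 (Nat.land x (nat_lit 4095)) (Nat.shiftRight x (nat_lit 12))

noncomputable def uL (n : ℕ) : ℕ → List (List ℕ) :=
  Nat.rec (motive := fun _ => ℕ → List (List ℕ)) (fun _ => []) (fun _ ih x =>
    force (Nat.land x (nat_lit 4095)) fun k => force (Nat.shiftRight x (nat_lit 12)) fun y =>
      force (Nat.shiftRight y (Nat.mul k (nat_lit 12))) fun z => u1 k y :: ih z) n

noncomputable def wL (x : ℕ) : List (List ℕ) := uL (Nat.land x (nat_lit 4095)) (Nat.shiftRight x (nat_lit 12))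

/-- words with four-bit letters -/
noncomputable def uW (n : ℕ) : ℕ → List (List ℕ) :=
  Nat.rec (motive := fun _ => ℕ → List (List ℕ)) (fun _ => []) (fun _ ih x =>
    force (Nat.land x (nat_lit 255)) fun k => force (Nat.shiftRight x (nat_lit 8)) fun y =>
      force (Nat.shiftRight y (Nat.shiftLeft k (nat_lit 2))) fun z => v1 k y :: ih z) n

noncomputable def wW (x : ℕ) : List (List ℕ) := uW (Nat.land x (nat_lit 4095)) (Nat.shiftRight x (nat_lit 12))

noncomputable def uT (n : ℕ) : ℕ → List Ts :=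
  Nat.rec (motive := fun _ => ℕ → List Ts) (fun _ => []) (fun _ ih x =>
    force (Nat.land (Nat.shiftRight x (nat_lit 4)) (nat_lit 255)) fun a => force (lk x (nat_lit 1)) fun b =>
      force (Nat.shiftRight x (nat_lit 24)) fun y => force (Nat.shiftRight y (Nat.shiftLeft a (nat_lit 2))) fun z =>
      Nat.rec (motive := fun _ => List Ts) (.f (v1 a y) b :: ih z) (fun k _ =>
        force (Nat.shiftRight z (Nat.shiftLeft b (nat_lit 2))) fun r => Nat.rec (motive := fun _ => List Ts)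
          (.e (v1 a y) (v1 b z) :: ih r) (fun _ _ => .n (v1 a y) (v1 b z) :: ih r) k) (Nat.land x (nat_lit 15))) n

noncomputable def wT (x : ℕ) : List Ts := uT (Nat.land x (nat_lit 4095)) (Nat.shiftRight x (nat_lit 12))

noncomputable def uC (n : ℕ) : ℕ → List (ℕ × List T3) :=
  Nat.rec (motive := fun _ => ℕ → List (ℕ × List T3)) (fun _ => []) (fun _ ih x =>
    force (Nat.land x (nat_lit 4095)) fun c => force (lk x (nat_lit 1)) fun k => force (Nat.shiftRight x (nat_lit 24)) fun y =>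
      force (Nat.shiftRight y (Nat.mul k (nat_lit 36))) fun z => (c, u3 k y) :: ih z) n

noncomputable def wC (x : ℕ) : List (ℕ × List T3) := uC (Nat.land x (nat_lit 4095)) (Nat.shiftRight x (nat_lit 12))

end CF.HSo
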