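import Cfsg.Agent.HSo.S
import Cfsg.Agent.HSo.P.F37
import Cfsg.Agent.HSo.P.F38
import Cfsg.Agent.HSo.P.F39
import Cfsg.Agent.HSo.P.F40
import Cfsg.Agent.HSo.P.F41
import Cfsg.Agent.HSo.P.F44
import Cfsg.Agent.HSo.P.F47
import Cfsg.Agent.HSo.P.F48

/-! The result of the computation. -/

namespace CF.HSo

universe u

theorem gB32 : Gs.{u} wB32 fB32 := gm (fun _ => .mul _) (nS P.W_5 P.F_B32 0x100200300400500600700800900a00b00c P.G_B32) (by decide +kernel)

theorem gE32 : Gs.{u} wE32 fE32 := gm (fun _ => .mul _) (nS P.W_631 P.F_E32 0xb001 P.G_E32) (by decide +kernel)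

theorem gB64_00 : Gs.{u} wB64_00 fB64_00 := gm (fun _ => .mul _) (nS P.W_404 P.F_B64_00 0x100200400700800900a00b00c00d00b P.G_B64_00) (by decide +kernel)

theorem gB64_04 : Gs.{u} wB64_04 fB64_04 := gm (fun _ => .mul _) (nS P.W_580 P.F_B64_04 0x100200400700800900d007 P.G_B64_04) (by decide +kernel)

theorem gB64_10 : Gs.{u} wB64_10 fB64_10 := gm (fun _ => .mul _) (nS P.W_641 P.F_B64_10 0x100400700800d005 P.G_B64_10) (by decide +kernel)

theorem gB64_14 : Gs.{u} wB64_14 fB64_14 := gm (fun _ => .mul _) (nS P.W_642 P.F_B64_14 0x100400700800d005 P.G_B64_14) (by decide +kernel)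

theorem gE64_00 : Gs.{u} wE64_00 fE64_00 := gm (fun _ => .mul _) (nS P.W_632 P.F_E64_00 0x100200400700800900a00d008 P.G_E64_00) (by decide +kernel)

theorem gE64_02 : Gs.{u} wE64_02 fE64_02 := gm (fun _ => .mul _) (nS P.W_643 P.F_E64_02 0x700800a00d004 P.G_E64_02) (by decide +kernel)

theorem gE64_10 : Gs.{u} wE64_10 fE64_10 := gm (fun _ => .mul _) (nS P.W_644 P.F_E64_10 0x700800a00d004 P.G_E64_10) (by decide +kernel)

theorem gE64_12 : Gs.{u} wE64_12 fE64_12 := gm (fun _ => .mul _) (nS P.W_645 P.F_E64_12 0x700800a00d004 P.G_E64_12) (by decide +kernel)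

theorem mach : Mach.{u} := by
  rintro G _ _ E ⟨p, hp, xs, C⟩
  simp only [roots, List.mem_cons, List.not_mem_nil, or_false] at hp
  rcases hp with rfl | rfl | rfl | rfl | rfl | rfl | rfl | rfl | rfl | rfl
  exacts [gB32.out C, gE32.out C, gB64_00.out C, gB64_04.out C, gB64_10.out C, gB64_14.out C, gE64_00.out C, gE64_02.out C, gE64_10.out C, gE64_12.out C]

end CF.HSo
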