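import Cfsg.Agent.HSo.N2
import Cfsg.Agent.HSo.E
import Cfsg.Agent.Char.ZStarCor

/-!
The local data: general lemmas.
-/

set_option autoImplicit false
set_option linter.unusedSectionVars false

namespace CF.HSo
open Subgroup CF.Loc Cfsg
open scoped commutatorElement

universe u

variable {G : Type u} [Group G] [Finite G] {t a z r s x y : G} {L K T S U : Subgroup G}

theorem exists_four (aa : a * a = 1) (zz : z * z = 1) (c : z * a = a * z) :
    ∃ U : Subgroup G, ∀ u, u ∈ U ↔ u = 1 ∨ u = z ∨ u = a ∨ u = a * z := by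
  have e1 : ∀ g, a * (a * g) = g := fun g => by rw [← mul_assoc, aa, one_mul]
  have e2 : ∀ g, z * (a * g) = a * (z * g) := fun g => by rw [← mul_assoc, c, mul_assoc]
  have ai := inv_eq_of_mul_eq_one_left aa
  have zi := inv_eq_of_mul_eq_one_left zz
  refine ⟨{ carrier := {u | u = 1 ∨ u = z ∨ u = a ∨ u = a * z}
            one_mem' := .inl rfl
            mul_mem' := ?_
            inv_mem' := ?_ }, fun _ => Iff.rfl⟩
  · rintro _ _ (e | e | e | e) (e' | e' | e' | e') <;> simp [e, e', e1, e2, aa, zz, c, mul_assoc]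
  · rintro _ (e | e | e | e) <;> simp [e, ai, zi, c]

theorem sq_four (aa : a * a = 1) (zz : z * z = 1) (c : z * a = a * z) : a * z * (a * z) = 1 := by
  rw [mul_assoc, ← mul_assoc z, c, mul_assoc, zz, mul_one, aa]

theorem not_mem_odd {X : Subgroup G} (o : Odd (Nat.card X)) (m : y ∈ X) (p : ∃ k, y ^ 2 ^ k = 1) : y = 1 := by
  obtain ⟨k, p⟩ := p
  refine orderOf_eq_one_iff.1 (Nat.Coprime.eq_one_of_dvd ?_ (orderOf_dvd_of_pow_eq_one p))
  exact (Nat.coprime_two_right.2 (o.of_dvd_nat (X.orderOf_dvd_natCard m))).pow_right k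

namespace Sg
variable (h : Sg t L K) (sT : IsSyl 2 T 𝐜(t))
include h sT

local notation "D" => T ⊓ L

theorem triv (m : y ∈ T) (l : y ∈ L) (k : y ∈ K) : y = 1 :=
  not_mem_odd h.odd ⟨l, k⟩ (isPGroup_iff_forall.1 sT.isPGroup y m)

theorem sD : IsSyl 2 D L := haveI : Fact (Nat.Prime 2) := ⟨Nat.prime_two⟩; sT.inf_of_le_normalizer h.lL h.nL

theorem sR : IsSyl 2 (T ⊓ K) K := haveI : Fact (Nat.Prime 2) := ⟨Nat.prime_two⟩; sT.inf_of_le_normalizer h.lK h.nK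

theorem nD : T ≤ 𝐍(D) := le_normalizer_inf le_normalizer (sT.le.trans h.nL)

theorem nR : T ≤ 𝐍(T ⊓ K) := le_normalizer_inf le_normalizer (sT.le.trans h.nK)

theorem tT : t ∈ T := zpowers_le.1 (sT.le_of_le_normalizer (isPGroup_zpowers (k := 1) (by rw [pow_one, pow_two, h.t2]))
  (zpowers_le.2 (c1.2 rfl)) (sT.le.trans (centralizer_zpowers t ▸ centralizer_le_normalizer_of_le le_rfl)))

theorem tL : t ∉ L := fun m => h.t1 (h.triv sT (h.tT sT) m h.tK)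

theorem RM : T ⊓ K ≤ T ⊓ 𝐂(D) := fun x hx => ⟨hx.1, fun d hd => mul_inv_eq_iff_eq_mul.1 (mul_inv_eq_one.1
  (h.triv sT (mul_mem (mul_mem (mul_mem hd.1 hx.1) (inv_mem hd.1)) (inv_mem hx.1)) (by
    have := mul_mem hd.2 (conj_mem_of_mem_normalizer (h.nL (h.lK hx.2)) (inv_mem hd.2))
    rwa [← mul_assoc, ← mul_assoc] at this)
    (mul_mem (conj_mem_of_mem_normalizer (h.nK (h.lL hd.2)) hx.2) (inv_mem hx.2))))⟩

/-- a normal subgroup of odd order of `L` lies in `K` -/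
theorem odd_le (m : z ∈ D) (z1 : z ≠ 1) {N : Subgroup G} (l : N ≤ L) (n : L ≤ 𝐍(N)) (o : Odd (Nat.card N)) : N ≤ K := by
  have nO : L ≤ 𝐍(L ⊓ K) := le_normalizer_inf le_normalizer (h.lL.trans h.nK)
  rcases h.sim (N ⊔ L ⊓ K) le_sup_right (sup_le l inf_le_left) (le_normalizer_sup n nO) with e | e
  · exact le_sup_left.trans (e.le.trans inf_le_right)
  · refine absurd (not_mem_odd (e ▸ Odd.of_dvd_nat (o.mul h.odd) ?_) m.2 (isPGroup_iff_forall.1 sT.isPGroup z m.1)) z1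
    exact card_sup_mul_card_inf (l.trans nO) ▸ Dvd.intro _ rfl

theorem der (m : a ∈ D) : a ∈ ⁅L, L⁆ := by
  have : Fact (Nat.Prime 2) := ⟨Nat.prime_two⟩
  have nO : L ≤ 𝐍(L ⊓ K) := le_normalizer_inf le_normalizer (h.lL.trans h.nK)
  have nd : L ≤ 𝐍(⁅L, L⁆) := le_normalizer_commutator le_normalizer le_normalizer
  have ld : ⁅L, L⁆ ≤ L := commutator_le_left_of_le_normalizer le_normalizer
  rcases h.sim (⁅L, L⁆ ⊔ L ⊓ K) le_sup_right (sup_le ld inf_le_left) (le_normalizer_sup nd nO) with e | e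
  · rw [h.triv sT m.1 m.2 (h.cen a (sT.le m.1) fun l hl =>
      (e.le (mem_sup_left (commutator_mem_commutator m.2 hl))).2)]
    exact one_mem _
  obtain ⟨P, hP⟩ := exists_isSyl 2 ⁅L, L⁆
  have := hP.trans_of_not_dvd ld (by
    have k := relIndex_sup_of_le_normalizer (inf_le_left.trans nd : L ⊓ K ≤ _)
    rw [e] at k
    rw [k]
    exact fun q => h.odd.not_two_dvd_nat (q.trans (relIndex_dvd_card _ _)))
  obtain ⟨g, hg, k⟩ := this.exists_le_cj (sT.isPGroup.to_le inf_le_left) (inf_le_right : D ≤ L)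
  exact cj_le_of_mem_normalizer (nd hg) hP.le (k m)

theorem syl_sup (l1 : D ≤ S) (l2 : S ≤ T) : IsSyl 2 S (L ⊔ S) :=
  haveI : Fact (Nat.Prime 2) := ⟨Nat.prime_two⟩
  isSyl_of_not_dvd_relIndex (sT.isPGroup.to_le l2) le_sup_right (by
    have e := card_sup_mul_card_inf' (l2.trans (sT.le.trans h.nL))
    have e1 : L ⊓ S = D := le_antisymm (le_inf (inf_le_right.trans l2) inf_le_left) (le_inf inf_le_right l1)
    have e2 := (S.subgroupOf (L ⊔ S)).card_mul_index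
    have e3 := ((D).subgroupOf L).card_mul_index
    rw [Nat.card_congr (subgroupOfEquivOfLe le_sup_right).toEquiv] at e2
    rw [Nat.card_congr (subgroupOfEquivOfLe inf_le_right).toEquiv] at e3
    rw [e1, ← e2, ← e3, mul_comm _ (Nat.card S), mul_assoc, mul_comm _ (Nat.card ↥(D))] at e
    rw [relIndex, Nat.eq_of_mul_eq_mul_left Nat.card_pos (Nat.eq_of_mul_eq_mul_left Nat.card_pos e)]
    exact (h.sD sT).not_dvd_relIndex)

/-- the application of the `Z*`-theorem -/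
theorem zs (m : s ∈ T ⊓ 𝐂(D)) (ss : s * s ∈ K) (zD : z ∈ D) (zc : z ∈ 𝐂(D)) (zz : z * z = 1) (z1 : z ≠ 1)
    (h1 : ∀ d ∈ D, d * d = 1 → d ≠ 1 → ∃ c ∈ L, c * s = s * c ∧ c * d * c⁻¹ = z)
    (h2 : ∀ d ∈ D, d ∈ 𝐂(D) → d ≠ 1 → ∃ c ∈ L ⊓ 𝐍(D), c * s = s * c ∧ c * z * c⁻¹ = d) : s ∈ K := by
  have : Fact (Nat.Prime 2) := ⟨Nat.prime_two⟩
  have sC := sT.le m.1
  have l2 : D ⊔ zpowers s ≤ T := sup_le inf_le_left (zpowers_le.2 m.1)
  have sS := h.syl_sup sT le_sup_left l2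
  have sm : s ∈ D ⊔ zpowers s := mem_sup_right (mem_zpowers s)
  have cS : D ⊔ zpowers s ≤ 𝐜(s) := sup_le (fun d hd => c1.2 (m.2 d hd)) (zpowers_le.2 (c1.2 rfl))
  have cZ : D ⊔ zpowers s ≤ 𝐜(z) := sup_le (fun d hd => c1.2 (zc d hd)) (zpowers_le.2 (c1.2 (m.2 z zD).symm))
  have nS : ∀ c ∈ 𝐍(D), c * s = s * c → c ∈ 𝐍(D ⊔ zpowers s) := fun c hc e => zpowers_le.1 (le_normalizer_sup
    (zpowers_le.2 hc) (zpowers_le.2 (centralizer_le_normalizer_of_le le_rfl (centralizer_zpowers s ▸ c1.2 e))))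
  have mY : ∀ g ∈ L ⊔ (D ⊔ zpowers s), ∃ l ∈ L, g * s * g⁻¹ = l * s * l⁻¹ := fun g hg => by
    obtain ⟨l, hl, y, hy, rfl⟩ := (mem_sup_of_le_normalizer (l2.trans (sT.le.trans h.nL))).1 hg
    exact ⟨l, hl, by rw [mul_assoc l, c1.1 (cS hy)]; group⟩
  have eD : (D ⊔ zpowers s) ⊓ L = D := le_antisymm (inf_le_inf_right _ l2) (le_inf le_sup_left inf_le_right)
  generalize D ⊔ zpowers s = S at *
  have YC : L ⊔ S ≤ 𝐜(t) := sup_le h.lL (l2.trans sT.le)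
  by_cases w : ∀ g ∈ L ⊔ S, g * s * g⁻¹ ∈ S → g * s * g⁻¹ = s
  · obtain ⟨N, hN, o, k⟩ := CF.Char.inZStar_of_weaklyClosed sS.toSylow (x := ⟨s, mem_sup_right sm⟩) sm
      fun g hg => Subtype.ext (w g g.2 hg)
    refine h.cen s sC fun l hl => h.odd_le sT zD z1 (N := N.map (L ⊔ S).subtype ⊓ L) inf_le_right
      (le_normalizer_inf (fun g hg => mem_normalizer_of_conj_mem ?_) le_normalizer)
      (o.of_dvd_nat ((card_dvd_of_le inf_le_left).trans (card_map_dvd _ _)))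
      ⟨mem_map_of_mem _ (k ⟨l, mem_sup_left hl⟩), L.mul_mem (conj_mem_of_mem_normalizer (h.nL sC) hl) (inv_mem hl)⟩
    rintro _ ⟨x, hx, rfl⟩
    exact mem_map_of_mem (L ⊔ S).subtype (hN.conj_mem x hx ⟨g, mem_sup_left hg⟩)
  push Not at w
  obtain ⟨g, hg, w1, w2⟩ := w
  obtain ⟨l, hl, e⟩ := mY g hg
  rw [e] at w1 w2
  have dD : s⁻¹ * (l * s * l⁻¹) ∈ D := ⟨l2 (mul_mem (inv_mem sm) w1), by
    have := mul_mem (conj_mem_of_mem_normalizer' (h.nL sC) hl) (inv_mem hl)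
    rwa [mul_assoc, mul_assoc, ← mul_assoc l] at this⟩
  have d2 : s⁻¹ * (l * s * l⁻¹) * (s⁻¹ * (l * s * l⁻¹)) = (s * s)⁻¹ * (l * (s * s) * l⁻¹) := by
    have := c1.1 (cS w1)
    calc _ = s⁻¹ * s⁻¹ * (s * (l * s * l⁻¹)) * s⁻¹ * (l * s * l⁻¹) := by group
      _ = _ := by rw [← this]; group
  obtain ⟨c, hc, c2, c3⟩ := h1 _ dD (h.triv sT (mul_mem dD.1 dD.1) (mul_mem dD.2 dD.2)
    (d2 ▸ mul_mem (inv_mem ss) (conj_mem_of_mem_normalizer (h.nK (h.lL hl)) ss))) fun q => w2 (inv_mul_eq_one.1 q).symm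
  have e1 : c * l * s * (c * l)⁻¹ = s * z := by
    rw [← c3, ← mul_assoc, ← mul_assoc, ← c2]; group
  have cl : c * l ∈ L ⊔ S := mem_sup_left (mul_mem hc hl)
  have cz : S ≤ (L ⊔ S) ⊓ 𝐜(s * z) := le_inf le_sup_right fun y hy => c1.2 (by
    rw [← mul_assoc, c1.1 (cS hy), mul_assoc, c1.1 (cZ hy), mul_assoc])
  obtain ⟨f, hf, k⟩ := ((sS.cj_of_mem cl).mono (le_inf (cj_le_of_mem cl le_sup_right)
    (by rw [← e1, ← cj_c1]; exact cj_mono _ cS)) inf_le_left).conj (sS.mono cz inf_le_left)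
  rw [← cj_mul, cj_eq_self_iff] at k
  have nY := mul_mem hf.1 cl
  have e2 : f * (c * l) * s * (f * (c * l))⁻¹ = s * z := cc e1 (mul_inv_eq_iff_eq_mul.2 (c1.1 hf.2))
  generalize f * (c * l) = n at *
  have nn : n ∈ 𝐍(D) := eD ▸ zpowers_le.1 (le_normalizer_inf (zpowers_le.2 k) (zpowers_le.2 (h.nL (YC nY))))
  obtain ⟨c', hc', c4, c5⟩ := h2 _ (conj_mem_of_mem_normalizer' nn zD)
    (conj_mem_of_mem_normalizer' (normalizer_le_normalizer_centralizer _ nn) zc) fun q => z1 (by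
      simpa [mul_assoc, inv_mul_eq_one] using q)
  obtain ⟨j, ⟨i, p⟩, q⟩ := two_part1 (cc (mul_inv_eq_iff_eq_mul.2 c4) e2) (cc c5 (by group)) zz
  have := sS.le_of_le_normalizer' (isPGroup_zpowers p) (zpowers_le.2 (pow_mem (mul_mem nY (mem_sup_left hc'.1)) j))
    (zpowers_le.2 (pow_mem (mul_mem k (nS _ hc'.2 c4)) j)) (mem_zpowers _)
  rw [c1.1 (cS this), mul_inv_cancel_right] at q
  exact absurd (left_eq_mul.1 q) z1

/-- the element of order three -/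
theorem half (l1 : D ≤ S) (l2 : S ≤ T) (nU : S ≤ 𝐍(U)) (mU : ∀ u, u ∈ U ↔ u = 1 ∨ u = z ∨ u = a ∨ u = a * z)
    (aa : a * a = 1) (zz : z * z = 1) (c : z * a = a * z) (lU : U ≤ D) (cU : D ⊓ 𝐂(U) ≤ U)
    (rL : r ∈ L) (rz : r * z * r⁻¹ = a) (ra : r * a * r⁻¹ = a * z) :
    ∃ r ∈ L, r * z * r⁻¹ = a ∧ r * a * r⁻¹ = a * z ∧ r ∈ 𝐍(S ⊓ 𝐂(U)) ∧
      (∀ e ∈ S ⊓ 𝐂(U), ∃ u ∈ U, e * u ∈ 𝐜(r)) ∧ (∀ e ∈ S ⊓ 𝐂(U), e ∈ K → e ∈ 𝐜(r)) ∧
      ∀ k ∈ L ⊓ 𝐂(U), (∃ j, k ^ 2 ^ j = 1) → k ∈ U := by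
  have : Fact (Nat.Prime 2) := ⟨Nat.prime_two⟩
  have zU : z ∈ U := (mU _).2 (by simp)
  have aU : a ∈ U := (mU _).2 (by simp)
  have ab : U ≤ 𝐂(U) := fun u hu v hv => GH2.comm_of_sq (fun x hx => by
    rcases (mU x).1 hx with e | e | e | e <;> simp only [e, aa, zz, mul_one, sq_four aa zz c]) hv hu
  have az : ∀ {r : G}, r * z * r⁻¹ = a → r * a * r⁻¹ = a * z → r * (a * z) * r⁻¹ = z := fun e e' => by
    rw [← conj_mul, e, e', mul_assoc, c, ← mul_assoc, aa, one_mul]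
  have rn : r ∈ 𝐍(U) := mem_normalizer_of_conj_mem fun u hu => by
    rcases (mU u).1 hu with e | e | e | e <;> simp [e, rz, ra, az rz ra, zU, aU, mul_mem]
  have nL : L ⊔ S ≤ 𝐍(L) := sup_le le_normalizer (l2.trans (sT.le.trans h.nL))
  have s1 : IsSyl 2 (S ⊓ 𝐂(U)) ((L ⊔ S) ⊓ 𝐂(U)) := by
    have := ((h.syl_sup sT l1 l2).mono (le_inf le_sup_right nU) inf_le_left).inf_of_le_normalizer
      (inf_le_inf_left _ (centralizer_le_normalizer_of_le le_rfl)) (le_normalizer_inf (inf_le_left.trans le_normalizer)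
        (inf_le_right.trans (normalizer_le_normalizer_centralizer U)))
    rwa [← inf_assoc, inf_eq_left.2 (le_sup_right : S ≤ L ⊔ S)] at this
  have lL : L ⊓ 𝐂(U) ≤ (L ⊔ S) ⊓ 𝐂(U) := inf_le_inf_right _ le_sup_left
  have nL' : (L ⊔ S) ⊓ 𝐂(U) ≤ 𝐍(L ⊓ 𝐂(U)) := le_normalizer_inf (inf_le_left.trans nL) (inf_le_right.trans le_normalizer)
  have eU : ∀ e ∈ S ⊓ 𝐂(U), e ∈ L → e ∈ U := fun e he k => cU ⟨⟨l2 he.1, k⟩, he.2⟩
  have s2 : IsSyl 2 U (L ⊓ 𝐂(U)) := by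
    have := s1.inf_of_le_normalizer lL nL'
    rwa [le_antisymm (fun e he => eU e he.1 he.2.1) (le_inf (le_inf (lU.trans l1) ab)
      (le_inf (lU.trans inf_le_right) ab)) |> (show S ⊓ 𝐂(U) ⊓ (L ⊓ 𝐂(U)) = U from ·)] at this
  have e1 := s1.sup_eq_of_pow_mem lL nL' fun x hx => by
    obtain ⟨l, hl, y, hy, rfl⟩ := (mem_sup_of_le_normalizer (l2.trans (sT.le.trans h.nL))).1 hx.1
    obtain ⟨k, p⟩ := isPGroup_iff_forall.1 sT.isPGroup y (l2 hy)
    refine ⟨k, ?_, pow_mem hx.2 _⟩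
    have : ∀ n : ℕ, (l * y) ^ n * (y ^ n)⁻¹ ∈ L := fun n => by
      induction n with
      | zero => simp
      | succ n ih =>
        have := mul_mem hl (conj_mem_of_mem_normalizer (nL (mem_sup_right hy)) ih)
        convert this using 1
        rw [pow_succ' (l * y)]; group
    simpa [p] using this (2 ^ k)
  obtain ⟨n, hn, m, hm, e⟩ := s1.frattini (g := r) (zpowers_le.1 (le_normalizer_inf
    (zpowers_le.2 (le_normalizer (H := L ⊔ S) (mem_sup_left rL))) (zpowers_le.2 (normalizer_le_normalizer_centralizer U rn))))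
  rw [← e1] at hn
  obtain ⟨l, hl, y, hy, rfl⟩ := (mem_sup_of_le_normalizer (s1.le.trans nL')).1 hn
  have k : ∀ u ∈ U, y * m * u * (y * m)⁻¹ = r * u * r⁻¹ := fun u hu => by
    rw [← conj_eq_of_mem_centralizer (inv_mem hl.2) (conj_mem_of_mem_normalizer rn hu), e]; group
  have L' : y * m ∈ L := (mul_mem_cancel_left (mem_inf.1 hl).1).1 (mul_assoc l y m ▸ e ▸ rL)
  have N' := mul_mem (le_normalizer (H := S ⊓ 𝐂(U)) hy) hm
  have z' := (k z zU).trans rz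
  have a' := (k a aU).trans ra
  generalize y * m = ρ at *
  have cm : ∀ e ∈ S ⊓ 𝐂(U), ρ * e * ρ⁻¹ * e⁻¹ ∈ U := fun e he => eU _
    (mul_mem (conj_mem_of_mem_normalizer N' he) (inv_mem he)) (by
      have := mul_mem L' (conj_mem_of_mem_normalizer (nL (mem_sup_right he.1)) (inv_mem L'))
      rwa [← mul_assoc, ← mul_assoc] at this)
  refine ⟨ρ, L', z', a', N', fun e he => ?_, fun e he k => c1.2 (mul_inv_eq_iff_eq_mul.1 (mul_inv_eq_one.1
    (h.triv sT (lU (cm e he)).1 (lU (cm e he)).2 (mul_mem (conj_mem_of_mem_normalizer (h.nK (h.lL L')) k)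
      (inv_mem k))))).symm, fun k hk p => two_mem s2 (le_centralizer_comm.1 inf_le_right) hk p⟩
  have f : ∀ u ∈ U, ρ * e * ρ⁻¹ * e⁻¹ * (ρ * u * ρ⁻¹) = u → ∃ u ∈ U, e * u ∈ 𝐜(ρ) := fun u hu q =>
    ⟨u, hu, c1.2 (mul_inv_eq_iff_eq_mul.1 (by
      calc _ = ρ * e * ρ⁻¹ * e⁻¹ * e * (ρ * u * ρ⁻¹) := by group
        _ = _ := by rw [he.2 _ (cm e he), mul_assoc e, q])).symm⟩
  rcases (mU _).1 (cm e he) with q | q | q | q
  · exact f 1 (one_mem _) (by simp [q])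
  · exact f a aU (by rw [q, a', ← mul_assoc, c, mul_assoc, zz, mul_one])
  · exact f _ (mul_mem aU zU) (by rw [q, az z' a'])
  · exact f z zU (by rw [q, z', mul_assoc, c, ← mul_assoc, aa, one_mul])

end Sg

end CF.HSo
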