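import Cfsg.Agent.HSo.L1

/-!
The local data from the setting.
-/

set_option autoImplicit false
set_option linter.unusedSectionVars false

namespace CF.HSo
open Subgroup CF.Loc Cfsg DihedralGroup
open scoped commutatorElement

universe u

variable {G : Type u} [Group G] [Finite G] {t a z r s x y : G} {L K T S U : Subgroup G}

theorem cyc3 (aa : a * a = 1) (c : z * a = a * z) (e : r * z * r⁻¹ = a) (e' : r * a * r⁻¹ = a * z) :
    r * (a * z) * r⁻¹ = z := by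
  rw [← conj_mul, e, e', mul_assoc, c, ← mul_assoc, aa, one_mul]

namespace Sg
variable (h : Sg t L K)
include h

local notation "D" => T ⊓ L
local notation "M" => T ⊓ 𝐂(T ⊓ L)

theorem d8half (sT : IsSyl 2 T 𝐜(t)) {φ : DihedralGroup 4 →* G} (fi : Function.Injective φ) (fr : φ.range = D)
    (i : ZMod 4) : ∃ (r : G) (W : Subgroup G), W ≤ M ∧ T ⊓ K ≤ W ∧ φ (.r 2) ∉ W ∧ (∀ m ∈ M, m ∈ W ∨ m * φ (.r 2) ∈ W) ∧
      r ∈ L ∧ r * φ (.r 2) * r⁻¹ = φ (sr i) ∧ r * φ (sr i) * r⁻¹ = φ (sr i) * φ (.r 2) ∧ W ≤ 𝐜(r) := by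
  have mD : ∀ p, φ p ∈ D := fun p => fr ▸ ⟨p, rfl⟩
  have cj' : ∀ p q u, p * q * p⁻¹ = u → φ p * φ q * (φ p)⁻¹ = φ u := fun p q u e => by
    rw [← e, map_mul, map_mul, map_inv]
  obtain ⟨f1, f2, f3, f4, f5, f6, f7⟩ := (by decide : ∀ i : ZMod 4, sr i * sr i = 1 ∧ .r 2 * sr i = sr i * .r 2 ∧
    sr (i + 1) * sr i * (sr (i + 1))⁻¹ = sr i * .r 2 ∧ sr (i + 1) * sr (i + 1) = 1 ∧ sr i * .r 2 ≠ 1 ∧
    (∀ p : DihedralGroup 4, sr i * p = p * sr i → p = 1 ∨ p = .r 2 ∨ p = sr i ∨ p = sr i * .r 2) ∧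
    ∀ p : DihedralGroup 4, p * sr i * p⁻¹ = sr i ∨ p * sr i * p⁻¹ = sr i * .r 2) i
  have aa : φ (sr i) * φ (sr i) = 1 := by rw [← map_mul, f1, map_one]
  have zz : φ (.r 2) * φ (.r 2) = 1 := by rw [← map_mul]; exact map_one φ
  have c : φ (.r 2) * φ (sr i) = φ (sr i) * φ (.r 2) := by rw [← map_mul, f2, map_mul]
  have ba := (cj' _ _ _ f3).trans (map_mul φ _ _)
  have bi : (φ (sr (i + 1)))⁻¹ = φ (sr (i + 1)) := inv_eq_of_mul_eq_one_left (by rw [← map_mul, f4, map_one])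
  have cz : ∀ p, φ p * φ (.r 2) * (φ p)⁻¹ = φ (.r 2) := fun p => cj' _ _ _ (by revert p; decide)
  have az1 : φ (sr i) * φ (.r 2) ≠ 1 := fun e => f5 (fi (by rw [map_mul, e, map_one]))
  have z1 : φ (.r 2) ≠ 1 := fun e => absurd (fi (e.trans φ.map_one.symm)) (by decide)
  have zM : φ (.r 2) ∈ M := ⟨(mD _).1, fun d hd => by
    obtain ⟨p, rfl⟩ := fr.ge hd
    exact mul_inv_eq_iff_eq_mul.1 (cz p)⟩
  obtain ⟨U, mU⟩ := exists_four aa zz c
  have zU := (mU _).2 (.inr (.inl rfl))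
  have aU := (mU _).2 (.inr (.inr (.inl rfl)))
  have lU : U ≤ D := fun u hu => by
    rcases (mU u).1 hu with e | e | e | e <;> rw [e]
    exacts [one_mem _, mD _, mD _, mul_mem (mD _) (mD _)]
  have cU : D ⊓ 𝐂(U) ≤ U := fun d hd => by
    obtain ⟨p, rfl⟩ := fr.ge hd.1
    rcases f6 p (fi (by rw [map_mul, map_mul]; exact hd.2 _ aU)) with e | e | e | e <;>
      simp only [mU, e, map_one, map_mul, true_or, or_true]
  have mr : ∀ j, φ (.r j) ∈ zpowers (φ (.r 1)) := fun j => by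
    rw [← ZMod.natCast_zmod_val j, ← r_one_pow, map_pow]
    exact pow_mem (mem_zpowers _) _
  obtain ⟨g, hg, l, n⟩ : ∃ g ∈ L, cj[g] U ≤ D ∧ (φ (sr i))⁻¹ * (g * φ (sr i) * g⁻¹) ∉ zpowers (φ (.r 1)) := by
    by_contra! k
    obtain ⟨j, e⟩ := xfer_in (h.sD sT) (commutator_le.2 fun x hx y hy => by
      obtain ⟨p, rfl⟩ := fr.ge hx
      obtain ⟨q, rfl⟩ := fr.ge hy
      obtain ⟨j, e⟩ := (by decide : ∀ p q : DihedralGroup 4, ∃ j, p * q * p⁻¹ * q⁻¹ = .r j) p q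
      rw [← map_commutatorElement, commutatorElement_def, e]
      exact mr j) aa (h.der sT (mD _)) (mD _) lU aU (fun u hu => c1.2 (by
        rcases (mU u).1 hu with e | e | e | e <;> simp [e, c, mul_assoc])) k
    have := fi ((map_zpow φ _ j).trans e)
    rw [r_one_zpow] at this
    cases this
  obtain ⟨p, hp⟩ := fr.ge (l (conj_mem_cj g aU))
  obtain ⟨q, hq⟩ := fr.ge (l (conj_mem_cj g zU))
  have sq : ∀ {p y}, φ p = g * y * g⁻¹ → y * y = 1 → p * p = 1 := fun e e' => fi (by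
    rw [map_mul, e, conj_mul, e']; simp)
  have ne : ∀ {p y}, φ p = g * y * g⁻¹ → y ≠ 1 → p ≠ 1 := fun e e' k => e' (by
    rw [k, map_one] at e; simpa using e.symm)
  obtain rfl := (by decide : ∀ (i : ZMod 4) (p : DihedralGroup 4), p * p = 1 → p ≠ 1 →
    (∀ j, (sr i)⁻¹ * p ≠ .r j) → p = .r 2) i p (sq hp aa) (ne hp fun e => absurd (fi (e.trans φ.map_one.symm))
      (by intro q; cases q)) fun j e => n (by rw [← hp, ← map_inv, ← map_mul, e]; exact mr j)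
  obtain ⟨d, hd⟩ := (by decide : ∀ q : DihedralGroup 4, q * q = 1 → q ≠ 1 → q ≠ .r 2 → ∃ d, d * q * d⁻¹ = q * .r 2) q
    (sq hq zz) (ne hq z1) fun e => az1 (by
      rw [e] at hq
      rw [mul_left_cancel (mul_right_cancel (hp.symm.trans hq)), zz])
  have y1 : g⁻¹ * φ d * g * φ (sr i) * (g⁻¹ * φ d * g)⁻¹ = φ (sr i) := cc hp.symm (cc (cz d) (ci hp.symm))
  have y2 : g⁻¹ * φ d * g * φ (.r 2) * (g⁻¹ * φ d * g)⁻¹ = φ (.r 2) * φ (sr i) :=
    cc hq.symm (cc (cj' _ _ _ hd) (by rw [map_mul, hq]; nth_rewrite 2 [hp]; group))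
  have nM : M ≤ 𝐍(D) := inf_le_left.trans (h.nD sT)
  have cM : M ≤ 𝐂(U) := inf_le_right.trans (centralizer_anti lU)
  obtain ⟨r, rL, rz, ra, -, k1, k2, k3⟩ := h.half sT (S := D ⊔ M) le_sup_left (sup_le inf_le_left inf_le_left)
    (sup_le (fun d hd => mem_normalizer_of_conj_mem fun u hu => by
      obtain ⟨p, rfl⟩ := fr.ge hd
      have : φ p * φ (sr i) * (φ p)⁻¹ ∈ U := by
        rcases f7 p with e | e <;> simp only [cj' _ _ _ e, mU, map_mul, true_or, or_true]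
      rcases (mU u).1 hu with e | e | e | e <;> rw [e]
      exacts [by simp, (cz p).symm ▸ zU, this, by rw [← conj_mul, cz]; exact mul_mem this zU])
      (cM.trans (centralizer_le_normalizer_of_le le_rfl))) mU aa zz c lU cU
    (mul_mem (mD (sr (i + 1))).2 (mul_mem (mul_mem (inv_mem hg) (mD d).2) hg))
    (cc y2 (by rw [← conj_mul, cz, ba, ← mul_assoc, c, mul_assoc, zz, mul_one])) (cc y1 ba)
  have ME : M ≤ (D ⊔ M) ⊓ 𝐂(U) := le_inf le_sup_right cM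
  have nb : ∀ m ∈ M, φ (sr (i + 1)) * (φ (sr i) * m) * (φ (sr (i + 1)))⁻¹ = φ (sr i) * m * φ (.r 2) := fun m hm => by
    rw [← conj_mul, ba, hm.2 _ (mD _), mul_inv_cancel_right, mul_assoc, mul_assoc, hm.2 _ (mD _)]
  have WM : (D ⊔ M) ⊓ 𝐂(U) ⊓ 𝐜(r) ≤ M := fun w hw => by
    obtain ⟨d, hd, m, hm, e⟩ := (mem_sup_of_le_normalizer nM).1 hw.1.1
    have k : ∀ m ∈ M, w ≠ φ (sr i) * m := fun m hm e => by
      have b1 := nb m hm
      rw [← e] at b1
      have w1 : r * w * r⁻¹ = w := by rw [← c1.1 hw.2, mul_inv_cancel_right]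
      have r3 := cyc3 aa c rz ra
      have t3 : ∀ {x y u v}, φ (sr (i + 1)) * x * (φ (sr (i + 1)))⁻¹ = y → r * y * r⁻¹ = u →
          φ (sr (i + 1)) * u * (φ (sr (i + 1)))⁻¹ = v → ∀ {o}, r * v * r⁻¹ = o →
          r * (φ (sr (i + 1)) * (r * φ (sr (i + 1)))) * x * (r * (φ (sr (i + 1)) * (r * φ (sr (i + 1)))))⁻¹ = o :=
        fun e1 e2 e3 _ e4 => cc (cc (cc e1 e2) e3) e4
      have q1 := t3 (cz _) rz ba r3
      have q2 := t3 ba r3 (cz _) rz
      have q3 := t3 b1 (u := w * φ (sr i)) (by rw [← conj_mul, w1, rz]) (v := w * φ (sr i))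
        (by rw [← conj_mul, b1, ba, mul_assoc, ← mul_assoc (φ (.r 2)), c, mul_assoc, zz, mul_one])
        (o := w * (φ (sr i) * φ (.r 2))) (by rw [← conj_mul, w1, ra])
      have kL : r * (φ (sr (i + 1)) * (r * φ (sr (i + 1)))) ∈ L :=
        mul_mem rL (mul_mem (mD _).2 (mul_mem rL (mD _).2))
      generalize r * (φ (sr (i + 1)) * (r * φ (sr (i + 1)))) = κ at *
      have q4 : κ * (φ (sr i) * φ (.r 2)) * κ⁻¹ = φ (sr i) * φ (.r 2) := by rw [← conj_mul, q1, q2]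
      obtain ⟨j, p, q⟩ := two_part1 q3 q4 (sq_four aa zz c)
      have := k3 _ (pow_mem (mem_inf.2 ⟨kL, mem_centralizer_of_conj_eq fun u hu => by
        rcases (mU u).1 hu with e | e | e | e <;> simp [e, q1, q2, q4]⟩) j) p
      rw [hw.1.2 _ this, mul_inv_cancel_right] at q
      exact az1 (left_eq_mul.1 q)
    rcases (mU d).1 (cU ⟨hd, (mul_mem_cancel_right (cM hm)).1 (e ▸ hw.1.2)⟩) with q | q | q | q <;> rw [q] at e
    · exact e ▸ mul_mem (one_mem _) hm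
    · exact e ▸ mul_mem zM hm
    · exact absurd e.symm (k m hm)
    · exact absurd (e.symm.trans (mul_assoc _ _ _)) (k _ (mul_mem zM hm))
  refine ⟨r, _, WM, fun e he => ⟨ME (h.RM sT he), k2 e (ME (h.RM sT he)) he.2⟩, fun k => az1 ?_, fun m hm => ?_,
    rL, rz, ra, inf_le_right⟩
  · rw [← rz, ← c1.1 k.2, mul_inv_cancel_right, zz]
  obtain ⟨u, hu, k⟩ := k1 m (ME hm)
  have w : m * u ∈ (D ⊔ M) ⊓ 𝐂(U) ⊓ 𝐜(r) := ⟨mul_mem (ME hm) ⟨mem_sup_left (lU hu), fun v hv => GH2.comm_of_sq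
    (fun x hx => by rcases (mU x).1 hx with e | e | e | e <;> simp only [e, aa, zz, mul_one, sq_four aa zz c]) hv hu⟩, k⟩
  have uM := (mul_mem_cancel_left hm).1 (WM w)
  have na : φ (sr i) ∉ M := fun q => z1 (by
    rw [q.2 _ (mD _), mul_inv_cancel_right] at ba
    exact left_eq_mul.1 ba)
  rcases (mU u).1 hu with q | q | q | q <;> rw [q] at w uM
  exacts [.inl (mul_one m ▸ w), .inr w, absurd uM na, absurd ((mul_mem_cancel_right zM).1 uM) na]

theorem lo (d : D8 L) (sT : IsSyl 2 T 𝐜(t)) : ∃ W V a b z r s, Lo t L T (T ⊓ K) W V a b z r s := by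
  obtain ⟨e⟩ := d _ (h.sD sT)
  obtain ⟨φ, fi, fr⟩ : ∃ φ : DihedralGroup 4 →* G, Function.Injective φ ∧ φ.range = D :=
    ⟨(D).subtype.comp e.symm.toMonoidHom, (subtype_injective _).comp e.symm.injective, by
      rw [MonoidHom.range_comp, MonoidHom.range_eq_top.2 e.symm.surjective, ← MonoidHom.range_eq_map, range_subtype]⟩
  obtain ⟨r, W, w1, w2, w3, w4, w5, w6, w7, w8⟩ := h.d8half sT fi fr 0
  obtain ⟨s, V, v1, v2, v3, v4, v5, v6, v7, v8⟩ := h.d8half sT fi fr 1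
  have mD : ∀ p, φ p ∈ D := fun p => fr ▸ ⟨p, rfl⟩
  have m2 : ∀ {p q p' q'}, p * q = p' * q' → φ p * φ q = φ p' * φ q' := fun e => by rw [← map_mul, e, map_mul]
  have m1 : ∀ {p}, p * p = 1 → φ p * φ p = 1 := fun e => by rw [← map_mul, e, map_one]
  have zz := m1 (p := .r 2) (by decide)
  have zc : φ (.r 2) ∈ 𝐂(D) := fun d hd => by
    obtain ⟨p, rfl⟩ := fr.ge hd
    exact m2 (by clear hd; revert p; decide)
  have WV : W ⊓ V = T ⊓ K := le_antisymm (by_contra fun n => by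
    obtain ⟨u, hu, n, q⟩ := ex_sq (sT.isPGroup.to_le (inf_le_left.trans (w1.trans inf_le_left))) n
    have c := (c1.1 (w8 hu.1)).symm
    have c' := (c1.1 (v8 hu.2)).symm
    refine n ⟨(w1 hu.1).1, h.zs sT (w1 hu.1) q.2 (mD _) zc zz (fun e => w3 (e ▸ one_mem _)) (fun d hd dd d1 => ?_)
      fun d hd dc d1 => ⟨1, one_mem _, by simp, ?_⟩⟩ <;> obtain ⟨p, rfl⟩ := fr.ge hd
    · rcases (by decide : ∀ p : DihedralGroup 4, p * p = 1 → p ≠ 1 → p = .r 2 ∨ p = sr 0 ∨ p = sr 0 * .r 2 ∨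
        p = sr 1 ∨ p = sr 1 * .r 2) p (fi (by rw [map_mul, dd, map_one])) (fun e => d1 (by rw [e, map_one]))
        with e | e | e | e | e <;> rw [e]
      · exact ⟨1, one_mem _, by simp, by simp⟩
      · exact ⟨r⁻¹, inv_mem w5, (Commute.inv_left c).eq, ci w6⟩
      · exact ⟨r, w5, c, map_mul φ _ _ ▸ cyc3 (m1 (by decide)) (m2 (by decide)) w6 w7⟩
      · exact ⟨s⁻¹, inv_mem v5, (Commute.inv_left c').eq, ci v6⟩
      · exact ⟨s, v5, c', map_mul φ _ _ ▸ cyc3 (m1 (by decide)) (m2 (by decide)) v6 v7⟩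
    · rw [(by decide : ∀ p : DihedralGroup 4, sr 0 * p = p * sr 0 → sr 1 * p = p * sr 1 → p ≠ 1 → p = .r 2) p
        (fi (by rw [map_mul, map_mul]; exact dc _ (mD _))) (fi (by rw [map_mul, map_mul]; exact dc _ (mD _)))
        fun e => d1 (by rw [e, map_one])]
      simp) (le_inf w2 v2)
  have sq : ∀ {X : Subgroup G}, ∀ m ∈ M, (m ∈ X ∨ m * φ (.r 2) ∈ X) → m * m ∈ X := fun m hm k => k.elim
    (fun k => mul_mem k k) fun k => by
      have := mul_mem k k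
      rwa [mul_assoc, ← mul_assoc (φ _), hm.2 _ (mD _), mul_assoc, zz, mul_one] at this
  refine ⟨W, V, _, _, _, r, s, h.t2, h.t1, sT, h.lL, h.nL, h.tL sT, m1 (by decide), m1 (by decide), zz,
    by rw [← map_mul]; exact m2 (by decide), m2 (by decide), m2 (by decide), ?_, ?_, ⟨h.tT sT, h.tK⟩, inf_le_left,
    h.nR sT, h.cyc _ (h.sR sT), WV, w1, v1, fun m hm => WV ▸ ⟨sq m hm (w4 m hm), sq m hm (v4 m hm)⟩, w3, v3, w4, v4,
    w5, w6, w7, w8, v5, v6, v7, v8⟩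
  · refine le_antisymm (fun d hd => ?_) ((closure_le _).2 (Set.pair_subset (mD _) (mD _)))
    obtain ⟨p, rfl⟩ := fr.ge hd
    have a0 : φ (sr 0) ∈ closure {φ (sr 0), φ (sr 1)} := subset_closure (by simp)
    have a1 : φ (sr 0 * sr 1) ∈ closure {φ (sr 0), φ (sr 1)} := map_mul φ _ _ ▸ mul_mem a0 (subset_closure (by simp))
    obtain ⟨k, e | e⟩ := (by decide : ∀ p : DihedralGroup 4, ∃ k : Fin 4, p = (sr 0 * sr 1) ^ k.val ∨
      p = sr 0 * (sr 0 * sr 1) ^ k.val) p <;> rw [e]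
    · exact map_pow φ _ _ ▸ pow_mem a1 _
    · rw [map_mul, map_pow]; exact mul_mem a0 (pow_mem a1 _)
  · rw [Nat.card_congr e.toEquiv, DihedralGroup.nat_card]

end Sg

end CF.HSo
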