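import Cfsg.Agent.Bt.Out.He

/-! An outer involutory automorphism of `He` with fixed elements of orders 5 and 7. -/

set_option autoImplicit false
set_option maxRecDepth 1000000

namespace CF.HSo

open CF.Comp CF.Bt

section
variable {G Ω : Type*} [Group G] [MulAction G Ω] {n : ℕ} {D : Dom Ω n} {nets : List Net} {f : ℕ → G}

theorem zh_outer {c cz : List Lvl} (hE : Exact D nets f c ⊤) {k : ℕ} (hk : n ≤ 2 ^ k) (hk' : k + 1 < n) {a : ℕ}
    (hZ : Exact D nets f cz (Subgroup.centralizer {ev f (wpow [3] a)})) {Ts : List (List (List ℕ))}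
    {pts : List ℕ} {j : ℕ} {y : List ℕ} (hD : outC nets n k cz Ts j y pts = true) {β : MulAut G}
    (hβ : ∀ i < 3, β (f i) = ev f (nth [] [wpow [1] j, [3], y] i)) (g : G) : MulAut.conj g ≠ β := by
  intro e
  have h0 : 0 < n := by omega
  have hL : LabOK n k (repl n k) (full (Nat.pred n)) := ⟨hk, hk', rfl, rfl⟩
  have e0 : ev f [1] = f 0 := ev_single f 0
  have e1 : ev f [3] = f 1 := ev_single f 1
  have e2 : ev f [5] = f 2 := ev_single f 2
  have β0 : β (f 0) = f 0 ^ j := (hβ 0 (by decide)).trans (e0 ▸ ev_wpow f [1] j)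
  have β1 : β (f 1) = f 1 := (hβ 1 (by decide)).trans e1
  have β2 : β (f 2) = ev f y := hβ 2 (by decide)
  subst e
  rw [MulAut.conj_apply, mul_inv_eq_iff_eq_mul] at β0 β1 β2
  unfold outC at hD
  simp only [brec_and, force_eq] at hD
  obtain ⟨v, hv, hΦ⟩ := enum_aux hL.isRepl hZ (Pl.one D k) hD.1 hD.2 g (by
    rw [Subgroup.mem_centralizer_singleton_iff, ev_wpow, e1]
    exact (Commute.pow_right β1 a).eq)
  rw [mul_one] at hv
  obtain ⟨ρ, hρ, h1⟩ := dif_spec hL (l := [g, f 0, f 1, f 2, f 0 ^ j, ev f y]) (.cons hv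
    (.cons (e0 ▸ pl_plW hE.reps h0 k _) (.cons (e1 ▸ pl_plW hE.reps h0 k _) (.cons (e2 ▸ pl_plW hE.reps h0 k _)
    (.cons (by rw [← e0, ← ev_wpow]; exact pl_plW hE.reps h0 k _) (.cons (pl_plW hE.reps h0 k _) .nil)))))) hΦ
  have h2 : ∀ (y : ℕ → G) (a b : ℕ), ev y (pw [a, b]) = y a * y b := fun y a b => by
    show evL y (2 * a + 1) * (evL y (2 * b + 1) * 1) = _
    rw [evL_odd, evL_odd, mul_one]
  simp only [List.mem_cons, List.not_mem_nil, or_false] at hρ
  rcases hρ with rfl | rfl | rfl <;> rw [h2, h2] at h1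
  exacts [h1 β0, h1 β2, h1 β1]

/-- `conj g * β` maps the word `u` to the word `w` -/
noncomputable def zhMap (nets : List Net) (c : List Lvl) (ys : List (List ℕ)) (g u w : List ℕ) : Bool :=
  Bool.rec false (baseEq nets c (lapp g (lapp (subst ys u) (winv g))) w) (lettersLe 3 [u])

theorem zh_map {c : List Lvl} (hE : Exact D nets f c ⊤) {ys : List (List ℕ)} {β : MulAut G}
    (hβ : ∀ i < 3, β (f i) = ev f (nth [] ys i)) {g u w : List ℕ} (h : zhMap nets c ys g u w = true) :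
    (MulAut.conj (ev f g) * β : MulAut G) (ev f u) = ev f w := by
  obtain ⟨h1, h2⟩ := brec_and.1 h
  have e : β (ev f u) = ev f (subst ys u) := by
    rw [ev_subst]
    exact (map_ev β.toMonoidHom f u).trans (ev_congr (m := 3) hβ (le_of_lettersLe h1 List.mem_cons_self))
  rw [← hE.eq_of_base trivial trivial h2, ev_lapp, ev_lapp, ev_winv, MulAut.mul_apply, MulAut.conj_apply, e, mul_assoc]

/-- fixed words `x` of order `p` and `y` with `x * (y * x * y⁻¹)` of even order -/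
noncomputable def zhFix (nets : List Net) (n : ℕ) (c : List Lvl) (ys : List (List ℕ)) (g x y : List ℕ) (p m : ℕ) : Bool :=
  lall (fun t => t) [zhMap nets c ys g x x, zhMap nets c ys g y y, baseEq nets c (wpow x p) [], neAt nets n 0 x [],
    baseEq nets c (wpow (wpow (lapp x (lapp (lapp y x) (winv y))) m) 2) [],
    neAt nets n 0 (wpow (lapp x (lapp (lapp y x) (winv y))) m) []]

theorem zh_fix {c : List Lvl} (hE : Exact D nets f c ⊤) {ys : List (List ℕ)} {β : MulAut G}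
    (hβ : ∀ i < 3, β (f i) = ev f (nth [] ys i)) {g x y : List ℕ} {p m : ℕ} (hp : p.Prime)
    (h : zhFix nets n c ys g x y p m = true) :
    ∃ x y : G, orderOf x = p ∧ (MulAut.conj (ev f g) * β : MulAut G) x = x ∧
      (MulAut.conj (ev f g) * β : MulAut G) y = y ∧ Even (orderOf (x * (y * x * y⁻¹))) := by
  simp only [zhFix, lall_iff, List.forall_mem_cons] at h
  obtain ⟨a1, a2, a3, a4, a5, a6, -⟩ := h
  have := Fact.mk hp
  refine ⟨ev f x, ev f y, orderOf_eq_prime ?_ (ne_of_neAt hE.reps a4), zh_map hE hβ a1, zh_map hE hβ a2, ?_⟩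
  · rw [← ev_wpow]; exact hE.eq_of_base trivial trivial a3
  · have b5 := hE.eq_of_base trivial trivial a5
    have b6 := ne_of_neAt hE.reps a6
    rw [ev_wpow, ev_wpow, ev_lapp, ev_lapp, ev_lapp, ev_winv, ev_nil] at b5
    rw [ev_wpow, ev_lapp, ev_lapp, ev_lapp, ev_winv, ev_nil] at b6
    have o := orderOf_eq_prime (p := 2) b5 b6
    exact even_iff_two_dvd.2 (o ▸ orderOf_pow_dvd m)

end

open OutHe

theorem zh_k : lall (fun t => t) [zhMap (lapp X X1) c [wpow [1] 3, [3], y] [5] [1] [5, 1, 1, 1, 5],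
    zhMap (lapp X X1) c [wpow [1] 3, [3], y] [5] [5, 1, 1, 1, 5] [1],
    zhMap (lapp X X1) c [wpow [1] 3, [3], y] [5] [3] [5, 3, 5],
    zhMap (lapp X X1) c [wpow [1] 3, [3], y] [5] [5, 3, 5] [3],
    zhMap (lapp X X1) c [wpow [1] 3, [3], y] [5] [5] [3, 5, 4, 5, 4, 5],
    zhMap (lapp X X1) c [wpow [1] 3, [3], y] [5] [3, 5, 4, 5, 4, 5] [5],
    zhFix (lapp X X1) 2058 c [wpow [1] 3, [3], y] [5] [1, 5, 1, 4, 1, 5, 2, 5, 2, 5, 1, 3, 1, 5, 1]
      [4, 1, 4, 4, 5, 1, 3, 1, 5, 4, 2, 3] 5 1,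
    zhFix (lapp X X1) 2058 c [wpow [1] 3, [3], y] [5] [1, 5, 2, 2, 5, 1, 5, 4, 1, 5, 4]
      [2, 5, 1, 1, 5, 2, 5, 4, 2, 5, 4] 7 3] = true := by decide +kernel

theorem he_tau : ∃ τ : MulAut Cfsg.Spor.He, τ * τ = 1 ∧ (∀ g, τ ≠ MulAut.conj g) ∧ ∀ p, p = 5 ∨ p = 7 →
    ∃ x y : Cfsg.Spor.He, orderOf x = p ∧ τ x = x ∧ τ y = y ∧ Even (orderOf (x * (y * x * y⁻¹))) := by
  obtain ⟨hE, hg⟩ := Exact.fresh He.exact (by decide) (fun _ _ => trivial) h1 (m := 3) rfl h2
    (Subgroup.card_top.trans He.card) h3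
  have hZ := cent_of hE (by decide) (by decide) (std_of_S t2) z1 z2
  obtain ⟨β, hβ⟩ := exists_aut hE hg (by decide) hP
  have o := zh_outer hE (by decide) (by decide) hZ hD hβ
  have k := zh_k
  simp only [lall_iff, List.forall_mem_cons] at k
  obtain ⟨k1, k2, k3, k4, k5, k6, k7, k8, -⟩ := k
  generalize (slp _ W 3 : ℕ → Cfsg.Spor.He) = f at hE hg hβ
  refine ⟨MulAut.conj (ev f [5]) * β, aut_ext hg fun i hi => ?_, fun g e => o ((ev f [5])⁻¹ * g) ?_, ?_⟩
  · rw [MulAut.mul_apply, MulAut.one_apply, ← ev_single f i]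
    interval_cases i
    exacts [(congrArg _ (zh_map hE hβ k1)).trans (zh_map hE hβ k2),
      (congrArg _ (zh_map hE hβ k3)).trans (zh_map hE hβ k4), (congrArg _ (zh_map hE hβ k5)).trans (zh_map hE hβ k6)]
  · rw [map_mul, ← e, map_inv, inv_mul_cancel_left]
  · rintro p (rfl | rfl)
    exacts [zh_fix hE hβ (by norm_num) k7, zh_fix hE hβ (by norm_num) k8]

end CF.HSo
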